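import Groth.Prelude.Def_QFDual
import Mathlib.RingTheory.PicardGroup
import Mathlib.RingTheory.Flat.Basic
import Mathlib.RingTheory.Support
import Mathlib.RingTheory.LocalRing.Module

/-!
# The different of an element of a module under base change
-/

set_option autoImplicit false

universe u v

open TensorProduct

namespace Groth.Agent.CohDer1.QFDiff

variable {R R' : Type u} [CommRing R] [CommRing R'] [Algebra R R'] {M M' : Type v} [AddCommGroup M] [Module R M]
  [AddCommGroup M'] [Module R M'] [Module R' M'] [IsScalarTower R R' M'] {f : M →ₗ[R] M'}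

theorem mem_different_iff_annihilator (τ : M) (r : R) :
    r ∈ QFDual.different R τ ↔ r ∈ Module.annihilator R (M ⧸ (R ∙ τ)) := by
  rw [Submodule.annihilator_quotient]
  rfl

theorem map_different_le (hf : IsBaseChange R' f) (τ : M) :
    (QFDual.different R τ).map (algebraMap R R') ≤ QFDual.different R' (f τ) := by
  rw [Ideal.map_le_iff_le_comap]
  intro r hr
  rw [Ideal.mem_comap, QFDual.mem_different_iff]
  intro m'
  induction m' using hf.inductionOn with
  | zero => exact ⟨0, by simp⟩
  | tmul m =>
    obtain ⟨c, hc⟩ := (QFDual.mem_different_iff R τ r).mp hr m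
    exact ⟨algebraMap R R' c, by rw [algebraMap_smul, algebraMap_smul, ← map_smul, ← map_smul, hc]⟩
  | smul s x hx =>
    obtain ⟨c, hc⟩ := hx
    exact ⟨s * c, by rw [mul_smul, hc, smul_comm]⟩
  | add x y hx hy =>
    obtain ⟨c, hc⟩ := hx
    obtain ⟨d, hd⟩ := hy
    exact ⟨c + d, by rw [add_smul, hc, hd, smul_add]⟩

/-- An element of the base-changed different kills the base change of `M / R τ`. -/
theorem smul_tensor_eq_zero (hf : IsBaseChange R' f) (τ : M) {r' : R'} (hr : r' ∈ QFDual.different R' (f τ))
    (y : R' ⊗[R] (M ⧸ (R ∙ τ))) : r' • y = 0 := by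
  have hs := LinearMap.lTensor_surjective R' (Submodule.mkQ_surjective (R ∙ τ))
  obtain ⟨z, rfl⟩ := hs y
  obtain ⟨c, hc⟩ := (QFDual.mem_different_iff R' (f τ) r').mp hr (hf.equiv z)
  have h1 : r' • z = c • ((1 : R') ⊗ₜ[R] τ) := hf.equiv.injective (by
    rw [map_smul, map_smul, IsBaseChange.equiv_tmul, one_smul, hc])
  have h2 : r' • (LinearMap.lTensor R' (R ∙ τ).mkQ) z = ((R ∙ τ).mkQ.baseChange R') (r' • z) := by
    rw [map_smul]; rfl
  rw [h2, h1, map_smul, LinearMap.baseChange_tmul, Submodule.mkQ_apply,
    (Submodule.Quotient.mk_eq_zero _).mpr (Submodule.mem_span_singleton_self τ), TensorProduct.tmul_zero, smul_zero]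

theorem different_eq_of_flat [Module.Finite R M] [Module.Flat R R'] (hf : IsBaseChange R' f) (τ : M) :
    (QFDual.different R τ).map (algebraMap R R') = QFDual.different R' (f τ) := by
  refine le_antisymm (map_different_le hf τ) fun r' hr => ?_
  obtain ⟨n, g, hg⟩ := Module.Finite.exists_fin' R (M ⧸ (R ∙ τ))
  let φ : R →ₗ[R] (Fin n → M ⧸ (R ∙ τ)) := LinearMap.pi fun i => LinearMap.toSpanSingleton R _ (g (Pi.single i 1))
  have hker : LinearMap.ker φ = QFDual.different R τ := by
    ext r
    rw [LinearMap.mem_ker, mem_different_iff_annihilator, Module.mem_annihilator]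
    constructor
    · intro h y
      obtain ⟨x, rfl⟩ := hg y
      rw [pi_eq_sum_univ' x, map_sum, Finset.smul_sum]
      refine Finset.sum_eq_zero fun i _ => ?_
      rw [map_smul, smul_comm]
      have := congrFun h i
      simp only [φ, LinearMap.pi_apply, LinearMap.toSpanSingleton_apply, Pi.zero_apply] at this
      rw [this, smul_zero]
    · intro h
      funext i
      simp [φ, h _]
  have hex := Module.Flat.lTensor_exact (M := R') (LinearMap.exact_subtype_ker_map φ)
  have h0 : LinearMap.lTensor R' φ (r' ⊗ₜ[R] (1 : R)) = 0 := by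
    apply (TensorProduct.piRight R R R' (fun _ : Fin n => M ⧸ (R ∙ τ))).injective
    rw [map_zero]
    funext i
    rw [LinearMap.lTensor_tmul, TensorProduct.piRight_apply, TensorProduct.piRightHom_tmul, Pi.zero_apply]
    have := smul_tensor_eq_zero hf τ hr ((1 : R') ⊗ₜ[R] φ 1 i)
    rwa [TensorProduct.smul_tmul', smul_eq_mul, mul_one] at this
  obtain ⟨t, ht⟩ := (hex _).mp h0
  have key : ∀ t : R' ⊗[R] (LinearMap.ker φ),
      TensorProduct.rid R R' (LinearMap.lTensor R' (LinearMap.ker φ).subtype t) ∈ (QFDual.different R τ).map (algebraMap R R') := by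
    intro t
    induction t using TensorProduct.induction_on with
    | zero => simp
    | tmul a x =>
      simp only [LinearMap.lTensor_tmul, Submodule.coe_subtype, TensorProduct.rid_tmul, Algebra.smul_def]
      exact Ideal.mul_mem_right _ _ (Ideal.mem_map_of_mem _ (hker ▸ x.2))
    | add x y hx hy => simpa using add_mem hx hy
  have := key t
  rwa [ht, TensorProduct.rid_tmul, one_smul] at this

theorem radical_different_eq [Module.Finite R M] (hf : IsBaseChange R' f) (τ : M) :
    ((QFDual.different R τ).map (algebraMap R R')).radical = (QFDual.different R' (f τ)).radical := by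
  refine le_antisymm (Ideal.radical_mono (map_different_le hf τ)) ((Ideal.radical_le_radical_iff).mpr fun r' hr => ?_)
  rw [Ideal.radical_eq_sInf, Submodule.mem_sInf]
  intro (q : Ideal R') hq'
  obtain ⟨hq, hqp⟩ := hq'
  by_contra hr'
  haveI := hqp
  let p := Ideal.comap (algebraMap R R') q
  have hp : p.IsPrime := Ideal.IsPrime.comap _
  have hsupp : (⟨p, hp⟩ : PrimeSpectrum R) ∈ Module.support R (M ⧸ (R ∙ τ)) := by
    rw [Module.support_eq_zeroLocus, PrimeSpectrum.mem_zeroLocus]
    exact fun r hr'' => hq (Ideal.mem_map_of_mem _ ((mem_different_iff_annihilator τ r).mpr hr''))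
  rw [Module.mem_support_iff_nontrivial_residueField_tensorProduct] at hsupp
  haveI := hp
  letI : Algebra p.ResidueField q.ResidueField := (Ideal.ResidueField.map p q (algebraMap R R') rfl).toAlgebra
  haveI : IsScalarTower R p.ResidueField q.ResidueField := IsScalarTower.of_algebraMap_eq fun r => by
    rw [RingHom.algebraMap_toAlgebra, Ideal.ResidueField.map_algebraMap, ← IsScalarTower.algebraMap_apply]
  have h1 : Subsingleton (q.ResidueField ⊗[R'] (R' ⊗[R] (M ⧸ (R ∙ τ)))) := by
    refine subsingleton_of_forall_eq 0 fun x => ?_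
    induction x using TensorProduct.induction_on with
    | zero => rfl
    | tmul a y =>
      have hu : algebraMap R' q.ResidueField r' ≠ 0 := fun h0 => hr' (Ideal.algebraMap_residueField_eq_zero.mp h0)
      have : a = r' • ((algebraMap R' q.ResidueField r')⁻¹ * a) := by
        rw [Algebra.smul_def, ← mul_assoc, mul_inv_cancel₀ hu, one_mul]
      rw [this, TensorProduct.smul_tmul, smul_tensor_eq_zero hf τ hr y, TensorProduct.tmul_zero]
    | add x y hx hy => rw [hx, hy, add_zero]
  have h2 : Subsingleton (q.ResidueField ⊗[R] (M ⧸ (R ∙ τ))) :=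
    (TensorProduct.AlgebraTensorModule.cancelBaseChange R R' q.ResidueField q.ResidueField _).symm.toEquiv.subsingleton
  have h3 : Nontrivial (q.ResidueField ⊗[R] (M ⧸ (R ∙ τ))) :=
    haveI : Nontrivial (q.ResidueField ⊗[p.ResidueField] (p.ResidueField ⊗[R] (M ⧸ (R ∙ τ)))) := by
      haveI := hsupp
      exact (Module.Flat.tensorProduct_mk_injective p.ResidueField (p.ResidueField ⊗[R] (M ⧸ (R ∙ τ))) q.ResidueField).nontrivial
    (TensorProduct.AlgebraTensorModule.cancelBaseChange R p.ResidueField q.ResidueField q.ResidueField _).symm.toEquiv.nontrivial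
  exact not_nontrivial _ h3

/-- For an invertible module, evaluation is symmetric. -/
theorem dual_smul_comm [Module.Invertible R M] (χ : Module.Dual R M) (x y : M) : χ x • y = χ y • x := by
  let D : Module.Dual R M ⊗[R] M →ₗ[R] R :=
    (LinearEquiv.ofBijective (Algebra.linearMap R (Module.End R M)) (Module.Invertible.toModuleEnd_bijective R M)).symm.toLinearMap ∘ₗ
      dualTensorHom R M M
  have hD : ∀ (χ : Module.Dual R M) (x y : M), D (χ ⊗ₜ x) • y = χ y • x := by
    intro χ x y
    have h := (LinearEquiv.ofBijective (Algebra.linearMap R (Module.End R M)) (Module.Invertible.toModuleEnd_bijective R M)).apply_symm_apply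
      (dualTensorHom R M M (χ ⊗ₜ x))
    have h' := LinearMap.congr_fun h y
    rw [LinearEquiv.ofBijective_apply, Algebra.linearMap_apply, Module.algebraMap_end_apply, dualTensorHom_apply] at h'
    exact h'
  let s := D ((Module.Invertible.linearEquiv R M).symm 1)
  have hs : ∀ t, D t = s * Module.Invertible.linearEquiv R M t := by
    intro t
    have : t = (Module.Invertible.linearEquiv R M t) • (Module.Invertible.linearEquiv R M).symm 1 := by
      rw [← map_smul, smul_eq_mul, mul_one, LinearEquiv.symm_apply_apply]
    conv_lhs => rw [this, map_smul]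
    rw [smul_eq_mul, mul_comm]
  have hsq : ∀ (χ : Module.Dual R M) (x : M), (1 - s) * χ x ^ 2 = 0 := by
    intro χ x
    have h := congrArg χ (hD χ x x)
    rw [hs, show Module.Invertible.linearEquiv R M (χ ⊗ₜ x) = χ x from rfl, map_smul, map_smul, smul_eq_mul, smul_eq_mul] at h
    linear_combination -h
  have hspan : Ideal.span (Set.range fun p : Module.Dual R M × M => p.1 p.2) = ⊤ := by
    rw [Ideal.eq_top_iff_one, ← (Module.Invertible.linearEquiv R M).apply_symm_apply 1]
    generalize (Module.Invertible.linearEquiv R M).symm (1 : R) = z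
    induction z using TensorProduct.induction_on with
    | zero => simp
    | tmul a b => exact Ideal.subset_span ⟨(a, b), rfl⟩
    | add a b ha hb => rw [map_add]; exact add_mem ha hb
  have hle : Ideal.span ((fun a => a ^ 2) '' Set.range fun p : Module.Dual R M × M => p.1 p.2) ≤
      LinearMap.ker (LinearMap.mulLeft R (1 - s)) := by
    rw [Ideal.span_le]
    rintro _ ⟨_, ⟨⟨a, b⟩, rfl⟩, rfl⟩
    exact hsq a b
  have hs1 : s = 1 := by
    have h1 := hle ((Ideal.eq_top_iff_one _).mp (Ideal.span_pow_eq_top _ hspan 2))
    rw [LinearMap.mem_ker, LinearMap.mulLeft_apply, mul_one] at h1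
    linear_combination -h1
  have h := hD χ x y
  rwa [hs, hs1, one_mul, show Module.Invertible.linearEquiv R M (χ ⊗ₜ x) = χ x from rfl] at h

theorem different_eq_of_invertible [Module.Invertible R M] (hf : IsBaseChange R' f) (τ : M) :
    (QFDual.different R τ).map (algebraMap R R') = QFDual.different R' (f τ) := by
  refine le_antisymm (map_different_le hf τ) fun r' hr => ?_
  have hD : ∀ ψ : Module.Dual R M, ψ τ ∈ QFDual.different R τ := fun ψ =>
    (QFDual.mem_different_iff R τ _).mpr fun m => ⟨ψ m, dual_smul_comm ψ m τ⟩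
  suffices ∀ z : Module.Dual R M ⊗[R] M,
      r' * algebraMap R R' (Module.Invertible.linearEquiv R M z) ∈ (QFDual.different R τ).map (algebraMap R R') by
    have h := this ((Module.Invertible.linearEquiv R M).symm 1)
    rwa [LinearEquiv.apply_symm_apply, map_one, mul_one] at h
  intro z
  induction z using TensorProduct.induction_on with
  | zero => simp
  | tmul ψ m =>
    obtain ⟨c, hc⟩ := (QFDual.mem_different_iff R' (f τ) r').mp hr (f m)
    let ψ' : M' →ₗ[R'] R' := hf.lift ((Algebra.linearMap R R').comp ψ)
    have hψ : ∀ x, ψ' (f x) = algebraMap R R' (ψ x) := fun x => hf.lift_eq _ x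
    have h := congrArg ψ' hc
    rw [map_smul, map_smul, hψ, hψ, smul_eq_mul, smul_eq_mul] at h
    show r' * algebraMap R R' (ψ m) ∈ _
    rw [← h]
    exact Ideal.mul_mem_left _ _ (Ideal.mem_map_of_mem _ (hD ψ))
  | add a b ha hb => rw [map_add, map_add, mul_add]; exact add_mem ha hb

end Groth.Agent.CohDer1.QFDiff
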