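import Groth.Prelude.Def_QFDual
import Mathlib.RingTheory.Flat.Basic
import Mathlib.RingTheory.Ideal.AssociatedPrime.Basic
import Mathlib.RingTheory.Ideal.MinimalPrime.Colon
import Mathlib.RingTheory.Ideal.GoingUp
import Mathlib.RingTheory.Localization.FractionRing
import Mathlib.AlgebraicGeometry.Morphisms.OpenImmersion
import Mathlib.AlgebraicGeometry.Morphisms.Flat

/-!
# Associated primes of the dualizing module of a quasi-finite algebra
-/

set_option autoImplicit false

universe u

open TensorProduct AlgebraicGeometry CategoryTheory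

namespace Groth.Agent.CohDer1.QFDiff

/-- A nonzero integral extension domain has a linear form over the base which is nonzero at one. -/
theorem exists_form_ne_zero {D C : Type u} [CommRing D] [IsDomain D] [CommRing C] [IsDomain C] [Algebra D C]
    [Module.Finite D C] [FaithfulSMul D C] : ∃ ψ : C →ₗ[D] D, ψ 1 ≠ 0 := by
  classical
  let F := FractionRing D
  letI : Algebra F (FractionRing C) := FractionRing.liftAlgebra D (FractionRing C)
  obtain ⟨k0, hk0⟩ := LinearMap.exists_leftInverse_of_injective (LinearMap.toSpanSingleton F (FractionRing C) 1)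
    (LinearMap.ker_toSpanSingleton F (M := FractionRing C) (x := (1 : FractionRing C)) one_ne_zero)
  have h1 : k0 1 = 1 := by simpa using LinearMap.congr_fun hk0 (1 : F)
  let k : C →ₗ[D] F := (k0.restrictScalars D).comp (IsScalarTower.toAlgHom D C (FractionRing C)).toLinearMap
  obtain ⟨T, hT⟩ := (Module.Finite.fg_top : (⊤ : Submodule D C).FG)
  obtain ⟨s, hs⟩ := IsLocalization.exist_integer_multiples_of_finset (nonZeroDivisors D) (T.image k)
  have hr : ∀ c, ((s : D) • k) c ∈ LinearMap.range (Algebra.linearMap D F) := by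
    have : Submodule.span D (T : Set C) ≤ (LinearMap.range (Algebra.linearMap D F)).comap ((s : D) • k) := by
      rw [Submodule.span_le]
      intro c hc
      obtain ⟨d, hd⟩ := hs (k c) (Finset.mem_image_of_mem _ hc)
      exact ⟨d, hd⟩
    intro c
    exact this (hT ▸ Submodule.mem_top)
  let e := LinearEquiv.ofInjective (Algebra.linearMap D F) (IsFractionRing.injective D F)
  refine ⟨e.symm.toLinearMap.comp (((s : D) • k).codRestrict _ hr), fun h0 => ?_⟩
  have h2 : ((s : D) • k) 1 = 0 := by
    have := congrArg e h0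
    rw [LinearMap.comp_apply, LinearEquiv.coe_coe, LinearEquiv.apply_symm_apply, map_zero] at this
    exact congrArg Subtype.val this
  have h3 : k 1 = 1 := by
    show k0 (algebraMap C (FractionRing C) 1) = 1
    rw [map_one, h1]
  rw [LinearMap.smul_apply, h3, Algebra.smul_def, mul_one] at h2
  exact nonZeroDivisors.coe_ne_zero s ((map_eq_zero_iff _ (IsFractionRing.injective D F)).mp h2)

variable {A B' : Type u} [CommRing A] [CommRing B'] [Algebra A B']

theorem mem_associatedPrimes_omega [IsNoetherianRing A] [Module.Finite A B'] (q : Ideal B') [q.IsPrime] :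
    (∃ φ : Disc.Omega A B', ∀ x : B', x ∈ q ↔ x • φ = 0) ↔ q.comap (algebraMap A B') ∈ associatedPrimes A A := by
  classical
  constructor
  · rintro ⟨φ, hφ⟩
    obtain ⟨T, hT⟩ := (Module.Finite.fg_top : (⊤ : Submodule A B').FG)
    let I : B' → Ideal A := fun g => (⊥ : Submodule A A).colon {φ.toLinearMap g}
    have hp : q.comap (algebraMap A B') = T.inf I := by
      refine Submodule.ext fun a => ?_
      rw [Submodule.mem_finsetInf]
      simp only [Ideal.mem_comap, hφ, I, Submodule.mem_colon_singleton, Submodule.mem_bot]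
      constructor
      · intro h g _
        have := congrArg (fun ψ => ψ.toLinearMap g) h
        rwa [Disc.Omega.smul_toLinearMap_apply, ← Algebra.smul_def, map_smul] at this
      · intro h
        refine Disc.Omega.ext (LinearMap.ext_on (s := (T : Set B')) (by rw [hT]) fun g hg => ?_)
        rw [Disc.Omega.smul_toLinearMap_apply, ← Algebra.smul_def, map_smul, h g hg]
        rfl
    have hpp : (q.comap (algebraMap A B')).IsPrime := Ideal.IsPrime.comap _
    obtain ⟨g, hg, hgp⟩ := (hpp.inf_le' (s := T) (f := I)).mp hp.ge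
    refine isAssociatedPrime_iff.mpr ⟨hpp, φ.toLinearMap g, le_antisymm ?_ hgp⟩
    rw [hp]
    exact Finset.inf_le hg
  · intro h
    obtain ⟨hp, a0, ha0⟩ := isAssociatedPrime_iff.mp h
    let p := q.comap (algebraMap A B')
    haveI : p.IsPrime := hp
    haveI : q.LiesOver p := ⟨rfl⟩
    haveI : FaithfulSMul (A ⧸ p) (B' ⧸ q) := (faithfulSMul_iff_algebraMap_injective _ _).mpr (by
      rw [injective_iff_map_eq_zero]
      intro x hx
      obtain ⟨a, rfl⟩ := Ideal.Quotient.mk_surjective x
      exact Ideal.Quotient.eq_zero_iff_mem.mpr ((Ideal.Quotient.eq_zero_iff_mem (I := q) (a := algebraMap A B' a)).mp hx))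
    haveI : Module.Finite (A ⧸ p) (B' ⧸ q) := Module.Finite.of_restrictScalars_finite A _ _
    obtain ⟨ψ, hψ⟩ := exists_form_ne_zero (D := A ⧸ p) (C := B' ⧸ q)
    let ι : (A ⧸ p) →ₗ[A] A := Submodule.liftQ p (LinearMap.toSpanSingleton A A a0) (fun a ha => by
      rw [show p = _ from ha0] at ha
      exact Submodule.mem_colon_singleton.mp ha)
    have hι : ∀ d, ι d = 0 → d = 0 := by
      intro d hd
      obtain ⟨a, rfl⟩ := Ideal.Quotient.mk_surjective d
      refine Ideal.Quotient.eq_zero_iff_mem.mpr ?_
      rw [show p = _ from ha0]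
      exact Submodule.mem_colon_singleton.mpr hd
    refine ⟨⟨ι ∘ₗ (ψ.restrictScalars A) ∘ₗ (Ideal.Quotient.mkₐ A q).toLinearMap⟩, fun x => ⟨fun hx => ?_, fun hx => ?_⟩⟩
    · refine Disc.Omega.ext (LinearMap.ext fun y => ?_)
      show ι (ψ (Ideal.Quotient.mk q (x * y))) = 0
      rw [Ideal.Quotient.eq_zero_iff_mem.mpr (q.mul_mem_right y hx), map_zero, map_zero]
    · by_contra hxq
      have hc : Ideal.Quotient.mk q x ≠ 0 := fun h0 => hxq (Ideal.Quotient.eq_zero_iff_mem.mp h0)
      haveI : Algebra.IsIntegral (A ⧸ p) (B' ⧸ q) := Algebra.IsIntegral.of_finite _ _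
      have hne := Ideal.comap_ne_bot_of_integral_mem (R := A ⧸ p) hc
        (Ideal.mem_span_singleton_self (Ideal.Quotient.mk q x)) (Algebra.IsIntegral.isIntegral _)
      obtain ⟨d, hd, hd0⟩ := Submodule.exists_mem_ne_zero_of_ne_bot hne
      obtain ⟨y, hy⟩ := Ideal.mem_span_singleton'.mp (Ideal.mem_comap.mp hd)
      obtain ⟨y, rfl⟩ := Ideal.Quotient.mk_surjective y
      have h0 := congrArg (fun φ => φ.toLinearMap y) hx
      have h1 : ψ (Ideal.Quotient.mk q (x * y)) = 0 := hι _ h0
      rw [map_mul, mul_comm, hy, ← mul_one (algebraMap (A ⧸ p) (B' ⧸ q) d), ← Algebra.smul_def, map_smul, smul_eq_mul] at h1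
      exact hψ ((mul_eq_zero.mp h1).resolve_left hd0)

variable {B M : Type u} [CommRing B] [Algebra B' B] [AddCommGroup M] [Module B' M]

/-- In a flat base change, the annihilator of `1 ⊗ m` is the extension of the annihilator of `m`. -/
theorem colon_one_tmul [Module.Flat B' B] (m : M) :
    (⊥ : Submodule B (B ⊗[B'] M)).colon {(1 : B) ⊗ₜ[B'] m} =
      ((⊥ : Submodule B' M).colon {m}).map (algebraMap B' B) := by
  apply le_antisymm
  · intro b hb
    rw [Submodule.mem_colon_singleton, Submodule.mem_bot, TensorProduct.smul_tmul', smul_eq_mul, mul_one] at hb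
    have hex := Module.Flat.lTensor_exact (M := B) (LinearMap.exact_subtype_ker_map (LinearMap.toSpanSingleton B' M m))
    obtain ⟨t, ht⟩ := (hex (b ⊗ₜ[B'] (1 : B'))).mp (by
      rw [LinearMap.lTensor_tmul, LinearMap.toSpanSingleton_apply, one_smul, hb])
    have key : ∀ t : B ⊗[B'] (LinearMap.ker (LinearMap.toSpanSingleton B' M m)),
        TensorProduct.rid B' B (LinearMap.lTensor B (LinearMap.ker (LinearMap.toSpanSingleton B' M m)).subtype t) ∈
          ((⊥ : Submodule B' M).colon {m}).map (algebraMap B' B) := by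
      intro t
      induction t using TensorProduct.induction_on with
      | zero => simp
      | tmul a x =>
        simp only [LinearMap.lTensor_tmul, Submodule.coe_subtype, TensorProduct.rid_tmul, Algebra.smul_def]
        exact Ideal.mul_mem_right _ _ (Ideal.mem_map_of_mem _ (Submodule.mem_colon_singleton.mpr x.2))
      | add x y hx hy => simpa using add_mem hx hy
    have := key t
    rwa [ht, TensorProduct.rid_tmul, one_smul] at this
  · rw [Ideal.map_le_iff_le_comap]
    intro x hx
    rw [Submodule.mem_colon_singleton, Submodule.mem_bot] at hx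
    rw [Ideal.mem_comap, Submodule.mem_colon_singleton, Submodule.mem_bot, algebraMap_smul, ← TensorProduct.tmul_smul, hx,
      TensorProduct.tmul_zero]

theorem associatedPrimes_tensor [IsNoetherianRing B'] [IsNoetherianRing B]
    [IsOpenImmersion (Spec.map (CommRingCat.ofHom (algebraMap B' B)))] :
    associatedPrimes B (B ⊗[B'] M) =
      {q : Ideal B | q.IsPrime ∧ q.comap (algebraMap B' B) ∈ associatedPrimes B' M} := by
  classical
  let φ := CommRingCat.ofHom (algebraMap B' B)
  haveI : Module.Flat B' B :=
    RingHom.flat_algebraMap_iff.mp ((HasRingHomProperty.Spec_iff (P := @AlgebraicGeometry.Flat)).mp (inferInstance : Flat (Spec.map φ)))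
  ext q
  constructor
  · intro hq
    obtain ⟨hqp, z, hz⟩ := isAssociatedPrime_iff.mp hq
    haveI := hqp
    let q' := q.comap (algebraMap B' B)
    haveI : q'.IsPrime := Ideal.IsPrime.comap _
    refine ⟨hqp, isAssociatedPrime_iff.mpr ⟨inferInstance, ?_⟩⟩
    have hbij : Function.Bijective (Localization.localRingHom q' q (algebraMap B' B) rfl) := by
      have h1 : IsIso ((Spec.map φ).stalkMap (⟨q, hqp⟩ : PrimeSpectrum B)) := inferInstance
      have h2 : IsIso (CommRingCat.ofHom (Localization.localRingHom q' q (algebraMap B' B) rfl)) :=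
        ((MorphismProperty.isomorphisms CommRingCat).arrow_mk_iso_iff (Scheme.arrowStalkMapSpecIso φ (⟨q, hqp⟩ : PrimeSpectrum B))).mp h1
      exact ConcreteCategory.bijective_of_isIso (CommRingCat.ofHom (Localization.localRingHom q' q (algebraMap B' B) rfl))
    have hsur : ∀ b : B, ∃ (t s : B') (u : B), s ∉ q' ∧ u ∉ q ∧ u * (algebraMap B' B s * b - algebraMap B' B t) = 0 := by
      intro b
      obtain ⟨x, hx⟩ := hbij.2 (algebraMap B (Localization.AtPrime q) b)
      obtain ⟨⟨t, s⟩, hts⟩ := IsLocalization.surj q'.primeCompl x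
      refine ⟨t, s, ?_⟩
      have h := congrArg (Localization.localRingHom q' q (algebraMap B' B) rfl) hts
      rw [map_mul, hx, Localization.localRingHom_to_map, Localization.localRingHom_to_map, ← map_mul] at h
      obtain ⟨u, hu⟩ := (IsLocalization.eq_iff_exists q.primeCompl (Localization.AtPrime q)).mp h
      exact ⟨u, s.2, u.2, by rw [mul_sub, mul_comm (algebraMap B' B s) b]; exact sub_eq_zero.mpr hu⟩
    have hrep : ∀ z : B ⊗[B'] M, ∃ (s : B') (u : B) (m : M), s ∉ q' ∧ u ∉ q ∧
        (u * algebraMap B' B s) • z = u • ((1 : B) ⊗ₜ[B'] m) := by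
      intro z
      induction z using TensorProduct.induction_on with
      | zero => exact ⟨1, 1, 0, fun h => q'.one_notMem h, fun h => q.one_notMem h, by simp⟩
      | tmul b m =>
        obtain ⟨t, s, u, hs, hu, h⟩ := hsur b
        refine ⟨s, u, t • m, hs, hu, ?_⟩
        rw [TensorProduct.smul_tmul', TensorProduct.tmul_smul, TensorProduct.smul_tmul', TensorProduct.smul_tmul',
          smul_eq_mul, smul_eq_mul]
        congr 1
        rw [mul_sub, sub_eq_zero] at h
        rw [mul_assoc, h, Algebra.smul_def, mul_one]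
      | add x y hx hy =>
        obtain ⟨s, u, m, hs, hu, h⟩ := hx
        obtain ⟨s', u', m', hs', hu', h'⟩ := hy
        refine ⟨s * s', u * u', s' • m + s • m', fun hh => (Ideal.IsPrime.mem_or_mem inferInstance hh).elim hs hs',
          fun hh => (hqp.mem_or_mem hh).elim hu hu', ?_⟩
        rw [TensorProduct.tmul_add, TensorProduct.tmul_smul, TensorProduct.tmul_smul, smul_add, smul_add,
          ← algebraMap_smul B s', ← algebraMap_smul B s ((1 : B) ⊗ₜ[B'] m'), map_mul,
          show u * u' * (algebraMap B' B s * algebraMap B' B s') =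
            (u' * algebraMap B' B s') * (u * algebraMap B' B s) by ring]
        congr 1
        · rw [mul_smul, h]
          simp only [smul_smul]
          congr 1
          ring
        · rw [mul_comm (u' * _), mul_smul, h']
          simp only [smul_smul]
          congr 1
          ring
    obtain ⟨s, u, m, hs, hu, h⟩ := hrep z
    have hmem : ∀ b, b • ((1 : B) ⊗ₜ[B'] m) = 0 → b ∈ q := by
      intro b hb
      have : (b * (u * algebraMap B' B s)) • z = 0 := by rw [mul_smul, h, smul_comm, hb, smul_zero]
      have h3 : b * (u * algebraMap B' B s) ∈ q := by rw [hz]; exact Submodule.mem_colon_singleton.mpr this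
      exact (hqp.mem_or_mem h3).resolve_right fun h4 => (hqp.mem_or_mem h4).elim hu hs
    have hkill : ∀ a ∈ q', ∃ s₁ : B', s₁ ∉ q' ∧ (s₁ * a) • m = 0 := by
      intro a ha
      by_contra hcon
      push Not at hcon
      have hle : (⊥ : Submodule B' M).colon {a • m} ≤ q' := by
        intro x hx
        by_contra hxq
        exact hcon x hxq (by rw [mul_smul]; exact Submodule.mem_colon_singleton.mp hx)
      have h0 : u • ((1 : B) ⊗ₜ[B'] (a • m)) = 0 := by
        have ha' : algebraMap B' B a ∈ q := ha
        rw [hz] at ha'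
        have haz : algebraMap B' B a • z = 0 := Submodule.mem_colon_singleton.mp ha'
        rw [TensorProduct.tmul_smul, ← algebraMap_smul B a, smul_comm, ← h, smul_comm, haz, smul_zero]
      have h5 : u ∈ (⊥ : Submodule B (B ⊗[B'] M)).colon {(1 : B) ⊗ₜ[B'] (a • m)} := Submodule.mem_colon_singleton.mpr h0
      rw [colon_one_tmul] at h5
      exact hu (Ideal.map_le_iff_le_comap.mpr hle h5)
    choose g hg hg' using hkill
    obtain ⟨T, hT⟩ := IsNoetherian.noetherian q'
    let S := ∏ a ∈ T.attach, g a.1 (hT ▸ Submodule.subset_span a.2)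
    have hS : S ∉ q' := fun hh => by
      obtain ⟨a, -, ha⟩ := Ideal.IsPrime.prod_mem_iff.mp hh
      exact hg _ _ ha
    refine ⟨S • m, le_antisymm ?_ fun x hx => ?_⟩
    · show q' ≤ _
      rw [← hT, Submodule.span_le]
      intro a ha
      rw [SetLike.mem_coe, Submodule.mem_colon_singleton, Submodule.mem_bot, smul_smul, mul_comm,
        show S * a = (S * a) from rfl]
      obtain ⟨w, hw⟩ := Finset.dvd_prod_of_mem (fun a : T => g a.1 (hT ▸ Submodule.subset_span a.2)) (Finset.mem_attach T ⟨a, ha⟩)
      rw [show S = _ from hw, show ∀ c : B', c * w * a = w * (c * a) from fun c => by ring, mul_smul, hg', smul_zero]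
    · rw [Submodule.mem_colon_singleton, Submodule.mem_bot, smul_smul] at hx
      have h6 : algebraMap B' B (x * S) ∈ q := hmem _ (by rw [algebraMap_smul, ← TensorProduct.tmul_smul, hx, TensorProduct.tmul_zero])
      exact ((inferInstance : q'.IsPrime).mem_or_mem (show x * S ∈ q' from h6)).resolve_right hS
  · rintro ⟨hqp, hq⟩
    obtain ⟨hq'p, m, hm⟩ := isAssociatedPrime_iff.mp hq
    refine isAssociatedPrime_iff.mpr ⟨hqp, ?_⟩
    apply Submodule.exists_eq_colon_of_mem_minimalPrimes (x := (1 : B) ⊗ₜ[B'] m)
    rw [colon_one_tmul, ← hm]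
    refine ⟨⟨hqp, Ideal.map_comap_le⟩, fun r hr hrq => ?_⟩
    obtain ⟨hrp, hqr⟩ := hr
    have heq : r.comap (algebraMap B' B) = q.comap (algebraMap B' B) :=
      le_antisymm (Ideal.comap_mono hrq) (Ideal.map_le_iff_le_comap.mp hqr)
    have := (Spec.map φ).isOpenEmbedding.injective (a₁ := (⟨r, hrp⟩ : PrimeSpectrum B)) (a₂ := (⟨q, hqp⟩ : PrimeSpectrum B))
      (PrimeSpectrum.ext heq)
    exact (congrArg PrimeSpectrum.asIdeal this).ge

theorem associatedPrimes_omega {B : Type u} [CommRing B] [Algebra B' B] [Algebra A B] [IsScalarTower A B' B]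
    [IsNoetherianRing A] [IsNoetherianRing B] (hf : QFDual.IsQFFactor A B' B) :
    associatedPrimes B (QFDual.omega A B' B) =
      {q : Ideal B | q.IsPrime ∧ q.comap (algebraMap A B) ∈ associatedPrimes A A} := by
  haveI := hf.finite
  haveI := hf.isOpenImmersion
  haveI : IsNoetherianRing B' := IsNoetherianRing.of_finite A B'
  show associatedPrimes B (B ⊗[B'] Disc.Omega A B') = _
  rw [associatedPrimes_tensor]
  ext q
  refine and_congr_right fun hq => ?_
  haveI := hq
  rw [IsScalarTower.algebraMap_eq A B' B, ← Ideal.comap_comap, ← mem_associatedPrimes_omega]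
  constructor
  · intro h
    obtain ⟨-, φ, hφ⟩ := isAssociatedPrime_iff.mp h
    exact ⟨φ, fun x => by rw [hφ, Submodule.mem_colon_singleton, Submodule.mem_bot]⟩
  · rintro ⟨φ, hφ⟩
    refine isAssociatedPrime_iff.mpr ⟨inferInstance, φ, ?_⟩
    ext x
    rw [hφ, Submodule.mem_colon_singleton, Submodule.mem_bot]

end Groth.Agent.CohDer1.QFDiff
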