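import Groth.Agent.CohDer1.QFDiff.Invertible
import Groth.Agent.Disc12.GorensteinFibre
import Groth.Agent.DualLib.GorLCI
import Groth.Agent.S9287
import Mathlib.AlgebraicGeometry.Pullbacks
import Mathlib.Algebra.Category.Ring.Constructions

/-!
# The dualizing module of a flat quasi-finite algebra is invertible iff its fibres are
-/

set_option autoImplicit false

universe u

open TensorProduct AlgebraicGeometry CategoryTheory

namespace Groth.Agent.CohDer1.QFDiff

attribute [local instance] Algebra.TensorProduct.rightAlgebra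

theorem finite_dual (A B' : Type u) [CommRing A] [IsNoetherianRing A] [CommRing B'] [Algebra A B'] [Module.Finite A B'] :
    Module.Finite A (Module.Dual A B') := by
  obtain ⟨n, f, hf⟩ := Module.Finite.exists_fin' A B'
  let e : Module.Dual A B' →ₗ[A] (Fin n → A) := LinearMap.pi fun i => Module.Dual.eval A B' (f (Pi.single i 1))
  refine Module.Finite.of_injective e fun φ ψ h => LinearMap.ext fun x => ?_
  obtain ⟨y, rfl⟩ := hf x
  rw [pi_eq_sum_univ' y, map_sum, map_sum, map_sum]
  refine Finset.sum_congr rfl fun i _ => ?_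
  rw [map_smul, map_smul, map_smul]
  exact congrArg (y i • ·) (congrFun h i)

variable {A B' B : Type u} [CommRing A] [CommRing B'] [CommRing B] [IsNoetherianRing A] [IsNoetherianRing B]
  [Algebra A B'] [Algebra B' B] [Algebra A B] [IsScalarTower A B' B] [Module.Flat A B]

/-- If all fibres of the dualizing module are invertible, so is the module. -/
theorem invertible_of_fibres (hf : QFDual.IsQFFactor A B' B)
    (hinv : ∀ (p : Ideal A) [p.IsPrime] (B₁' B₁ : Type u) [CommRing B₁'] [CommRing B₁] [Algebra B' B₁']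
      [Algebra p.ResidueField B₁'] [Algebra A B₁'] [IsScalarTower A p.ResidueField B₁'] [IsScalarTower A B' B₁']
      [Algebra B B₁] [Algebra p.ResidueField B₁] [Algebra A B₁] [IsScalarTower A p.ResidueField B₁] [IsScalarTower A B B₁]
      [Algebra B₁' B₁] [Algebra B' B₁] [IsScalarTower B' B₁' B₁] [IsScalarTower B' B B₁]
      [IsScalarTower p.ResidueField B₁' B₁],
      Algebra.IsPushout A p.ResidueField B' B₁' → Algebra.IsPushout A p.ResidueField B B₁ →
        Module.Invertible B₁ (QFDual.omega p.ResidueField B₁' B₁)) :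
    Module.Invertible B (QFDual.omega A B' B) := by
  haveI := hf.finite
  haveI := hf.isOpenImmersion
  haveI := finite_dual A B'
  haveI : Module.Finite B' (Disc.Omega A B') := omega_finite A B'
  refine invertible_of_locally fun q hq => ?_
  haveI := hq
  let p := q.comap (algebraMap A B)
  haveI : p.IsPrime := Ideal.IsPrime.comap _
  let κ := p.ResidueField
  let j : κ ⊗[A] B' →ₐ[κ] κ ⊗[A] B := Algebra.TensorProduct.map (AlgHom.id κ κ) (IsScalarTower.toAlgHom A B' B)
  letI : Algebra (κ ⊗[A] B') (κ ⊗[A] B) := j.toRingHom.toAlgebra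
  letI : Algebra B' (κ ⊗[A] B) := ((algebraMap B (κ ⊗[A] B)).comp (algebraMap B' B)).toAlgebra
  haveI : IsScalarTower B' B (κ ⊗[A] B) := IsScalarTower.of_algebraMap_eq fun _ => rfl
  haveI : IsScalarTower B' (κ ⊗[A] B') (κ ⊗[A] B) := IsScalarTower.of_algebraMap_eq fun b => by
    show (1 : κ) ⊗ₜ[A] algebraMap B' B b = j ((1 : κ) ⊗ₜ[A] b)
    simp [j]
  haveI : IsScalarTower κ (κ ⊗[A] B') (κ ⊗[A] B) := IsScalarTower.of_algebraMap_eq fun c => (j.commutes c).symm
  have hp' : Algebra.IsPushout A κ B' (κ ⊗[A] B') := inferInstance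
  have hp : Algebra.IsPushout A κ B (κ ⊗[A] B) := inferInstance
  haveI := hinv p (κ ⊗[A] B') (κ ⊗[A] B) hp' hp
  let e : (κ ⊗[A] B) ⊗[B] QFDual.omega A B' B ≃ₗ[κ ⊗[A] B] QFDual.omega κ (κ ⊗[A] B') (κ ⊗[A] B) :=
    (TensorProduct.AlgebraTensorModule.cancelBaseChange B' B (κ ⊗[A] B) (κ ⊗[A] B) (Disc.Omega A B')) ≪≫ₗ
      LinearEquiv.ofBijective (QFDual.omegaBC hp') (omegaBC_bijective_of_flat hf hp')
  refine locally_of_fibre q (Module.Invertible.congr e.symm) fun {n} a z hz => ?_
  haveI := flat_localization (A := A) (B' := B') q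
  haveI : (q.comap (algebraMap B' B)).IsPrime := Ideal.IsPrime.comap _
  obtain ⟨s, hs, hsf⟩ := exists_factorsFree (A := A) (q.comap (algebraMap B' B))
  exact exists_trivial_relation q hs hsf a z hz

omit [IsNoetherianRing B] in
theorem fibre_invertible (hf : QFDual.IsQFFactor A B' B) (hinv : Module.Invertible B (QFDual.omega A B' B))
    {p : Ideal A} [p.IsPrime] {B₁' B₁ : Type u} [CommRing B₁'] [CommRing B₁] [Algebra B' B₁']
    [Algebra p.ResidueField B₁'] [Algebra A B₁'] [IsScalarTower A p.ResidueField B₁'] [IsScalarTower A B' B₁']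
    [Algebra B B₁] [Algebra B₁' B₁] [Algebra B' B₁] [IsScalarTower B' B₁' B₁] [IsScalarTower B' B B₁]
    (hp' : Algebra.IsPushout A p.ResidueField B' B₁') :
    Module.Invertible B₁ (QFDual.omega p.ResidueField B₁' B₁) := by
  let e : B₁ ⊗[B] QFDual.omega A B' B ≃ₗ[B₁] QFDual.omega p.ResidueField B₁' B₁ :=
    (TensorProduct.AlgebraTensorModule.cancelBaseChange B' B B₁ B₁ (Disc.Omega A B')) ≪≫ₗ
      LinearEquiv.ofBijective (QFDual.omegaBC hp') (omegaBC_bijective_of_flat hf hp')
  haveI := hinv
  exact Module.Invertible.congr e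

end Groth.Agent.CohDer1.QFDiff

namespace Groth.Agent.CohDer1.QFDiff

open IsLocalRing

/-- Near a prime with Gorenstein local ring, the forms on a finite-dimensional algebra are free on one element. -/
theorem exists_generator_field {k C : Type u} [Field k] [CommRing C] [Algebra k C] [FiniteDimensional k C]
    (q : Ideal C) [q.IsPrime] (hG : _root_.LocCoh.IsGorensteinLocalRing (Localization.AtPrime q)) :
    ∃ x : Disc.Omega k C, (∀ m : Disc.Omega k C, ∃ v ∉ q, v • m ∈ C ∙ x) ∧
      ∀ b : C, b • x = 0 → ∃ v ∉ q, v * b = 0 := by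
  classical
  haveI : IsArtinianRing C := IsArtinianRing.of_finite k C
  let L := Localization.AtPrime q
  have hsurj : Function.Surjective (algebraMap C L) := IsArtinianRing.localization_surjective q.primeCompl L
  let π : C →ₐ[k] L := IsScalarTower.toAlgHom k C L
  have hπ : Function.Surjective π.toLinearMap := hsurj
  haveI : FiniteDimensional k L := Module.Finite.of_surjective π.toLinearMap hπ
  haveI : IsArtinianRing L := IsArtinianRing.of_finite k L
  obtain ⟨lam, hlam⟩ := (Disc12.exists_frobenius_iff (k := k) (C := L)).mpr (Disc12.gorenstein_iff_isSocleLine.mp hG)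
  refine ⟨⟨lam.comp π.toLinearMap⟩, fun m => ?_, fun b hb => ?_⟩
  · obtain ⟨T, hT⟩ := IsNoetherian.noetherian (RingHom.ker π.toRingHom)
    have hkill : ∀ c : T, ∃ v ∉ q, v * c.1 = 0 := by
      intro c
      have h1 : c.1 ∈ RingHom.ker π.toRingHom := hT ▸ Submodule.subset_span (show c.1 ∈ (T : Set C) from c.2)
      have h0 : algebraMap C L c.1 = 0 := h1
      obtain ⟨v, hv⟩ := (IsLocalization.map_eq_zero_iff q.primeCompl L c.1).mp h0
      exact ⟨v, v.2, hv⟩
    choose v hv hv0 using hkill
    refine ⟨∏ c, v c, fun hh => ?_, ?_⟩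
    · obtain ⟨c, -, hc⟩ := Ideal.IsPrime.prod_mem_iff.mp hh
      exact hv c hc
    have hker : LinearMap.ker π.toLinearMap ≤ LinearMap.ker ((∏ c, v c) • m).toLinearMap := by
      intro y hy
      have hy' : y ∈ Submodule.span C (T : Set C) := hT.symm ▸ (show π y = 0 from hy)
      have h2 : (∏ c, v c) * y = 0 := by
        have : Submodule.span C (T : Set C) ≤ LinearMap.ker (LinearMap.mulLeft C (∏ c, v c)) := by
          rw [Submodule.span_le]
          intro c hc
          show (∏ c, v c) * c = 0
          rw [← Finset.mul_prod_erase _ v (Finset.mem_univ ⟨c, hc⟩), mul_comm (v _), mul_assoc, hv0 ⟨c, hc⟩, mul_zero]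
        exact this hy'
      show m.toLinearMap ((∏ c, v c) * y) = 0
      rw [h2, map_zero]
    let μ : L →ₗ[k] k := (Submodule.liftQ _ _ hker) ∘ₗ (π.toLinearMap.quotKerEquivOfSurjective hπ).symm.toLinearMap
    have hμ : ∀ y, μ (π y) = ((∏ c, v c) • m).toLinearMap y := by
      intro y
      show Submodule.liftQ _ _ hker ((π.toLinearMap.quotKerEquivOfSurjective hπ).symm (π.toLinearMap y)) = _
      rw [show (π.toLinearMap.quotKerEquivOfSurjective hπ).symm (π.toLinearMap y) = Submodule.Quotient.mk y by
        rw [LinearEquiv.symm_apply_eq]; rfl]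
      rfl
    let T' : L →ₗ[k] Module.Dual k L := (LinearMap.mul k L).compr₂ lam
    have hTinj : Function.Injective T' := (injective_iff_map_eq_zero T').mpr fun y hy =>
      hlam y fun z => LinearMap.congr_fun hy z
    obtain ⟨c, hc⟩ := ((LinearMap.injective_iff_surjective_of_finrank_eq_finrank (Subspace.dual_finrank_eq).symm).mp hTinj) μ
    obtain ⟨c', rfl⟩ := hsurj c
    refine Submodule.mem_span_singleton.mpr ⟨c', Disc.Omega.ext (LinearMap.ext fun y => ?_)⟩
    rw [← hμ, ← hc]
    show lam (π (c' * y)) = lam (algebraMap C L c' * π y)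
    rw [map_mul]; rfl
  · have h0 : algebraMap C L b = 0 := hlam _ fun z => by
      obtain ⟨z, rfl⟩ := hsurj z
      have := congrArg (fun φ => φ.toLinearMap z) hb
      rw [← map_mul]
      exact this
    obtain ⟨v, hv⟩ := (IsLocalization.map_eq_zero_iff q.primeCompl L b).mp h0
    exact ⟨v, v.2, hv⟩

/-- Over a field: an open piece of a finite algebra which is Gorenstein has invertible dualizing module. -/
theorem invertible_field {k C C₁ : Type u} [Field k] [CommRing C] [CommRing C₁] [Algebra k C] [Algebra C C₁]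
    [FiniteDimensional k C] [IsNoetherianRing C₁]
    [IsOpenImmersion (Spec.map (CommRingCat.ofHom (algebraMap C C₁)))]
    (hG : _root_.LocCoh.IsGorensteinRing C₁) : Module.Invertible C₁ (QFDual.omega k C C₁) := by
  classical
  haveI := finite_dual k C
  haveI : Module.Finite C (Disc.Omega k C) := omega_finite k C
  refine invertible_of_locally fun Q hQ => ?_
  haveI := hQ
  haveI : (Q.comap (algebraMap C C₁)).IsPrime := Ideal.IsPrime.comap _
  have hGQ : _root_.LocCoh.IsGorensteinLocalRing (Localization.AtPrime (Q.comap (algebraMap C C₁))) :=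
    (DualLib.GorFlat.gor_congr (RingEquiv.ofBijective _ (bijective_localRingHom (B' := C) Q))).2
      (hG.isGorensteinLocalRing_localization Q)
  obtain ⟨x, hgen, hann⟩ := exists_generator_field (k := k) (Q.comap (algebraMap C C₁)) hGQ
  refine ⟨(1 : C₁) ⊗ₜ[C] x, fun z => ?_, fun b hb => ?_⟩
  · obtain ⟨s, u, m, hs, hu, hm⟩ := exists_rep (B' := C) Q z
    obtain ⟨v, hv, hvm⟩ := hgen m
    obtain ⟨c, hc⟩ := Submodule.mem_span_singleton.mp hvm
    refine ⟨algebraMap C C₁ v * (u * algebraMap C C₁ s),
      fun hh => (hQ.isPrime.mem_or_mem hh).elim hv fun h1 => (hQ.isPrime.mem_or_mem h1).elim hu hs, ?_⟩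
    refine Submodule.mem_span_singleton.mpr ⟨u * algebraMap C C₁ c, ?_⟩
    rw [mul_smul (algebraMap C C₁ v), hm, smul_smul, mul_comm (algebraMap C C₁ v) u, mul_smul, mul_smul,
      algebraMap_smul C₁ v, algebraMap_smul C₁ c, ← TensorProduct.tmul_smul c, ← TensorProduct.tmul_smul v, hc]
  · obtain ⟨t, s, u, hs, hu, h⟩ := exists_frac (B' := C) Q b
    have h1 : u • ((1 : C₁) ⊗ₜ[C] (t • x)) = 0 := by
      rw [TensorProduct.tmul_smul, ← algebraMap_smul C₁ t, ← mul_smul, ← h, mul_smul, hb, smul_zero]
    obtain ⟨s', hs', hs'0⟩ := exists_smul_eq_zero Q _ hu h1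
    rw [smul_smul] at hs'0
    obtain ⟨v, hv, hv0⟩ := hann _ hs'0
    refine ⟨algebraMap C C₁ (v * s') * (u * algebraMap C C₁ s), fun hh => ?_, ?_⟩
    · rcases hQ.isPrime.mem_or_mem hh with h2 | h2
      · exact ((Ideal.IsPrime.mem_or_mem inferInstance (show v * s' ∈ Q.comap (algebraMap C C₁) from h2))).elim hv hs'
      · exact (hQ.isPrime.mem_or_mem h2).elim hu hs
    · rw [mul_assoc, h, ← mul_assoc, mul_comm (algebraMap C C₁ (v * s')) u, mul_assoc, ← map_mul,
        mul_assoc v, hv0, map_zero, mul_zero]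

/-- A flat quasi-finite syntomic algebra has invertible dualizing module. -/
theorem invertible_of_syntomic {A B' B : Type u} [CommRing A] [CommRing B'] [CommRing B] [IsNoetherianRing A]
    [Algebra A B'] [Algebra B' B] [Algebra A B] [IsScalarTower A B' B] (hf : QFDual.IsQFFactor A B' B)
    (hs : Synt.IsSyntomic A B) : Module.Invertible B (QFDual.omega A B' B) := by
  obtain ⟨hflat, hlci⟩ := (Groth.Agent.S9287.result A B).mp hs
  haveI := hflat
  haveI := hs.2.1
  haveI := hf.finite
  haveI := hf.isOpenImmersion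
  haveI : Algebra.FiniteType A B := inferInstance
  haveI : IsNoetherianRing B := Algebra.FiniteType.isNoetherianRing A B
  refine invertible_of_fibres hf fun p _ B₁' B₁ _ _ _ _ _ _ _ _ _ _ _ _ _ _ _ _ _ hp' hp => ?_
  haveI : Module.Finite p.ResidueField B₁' := Module.Finite.equiv hp'.out.equiv
  haveI : IsScalarTower A B₁' B₁ := IsScalarTower.of_algebraMap_eq fun a => by
    rw [IsScalarTower.algebraMap_apply A p.ResidueField B₁, IsScalarTower.algebraMap_apply p.ResidueField B₁' B₁,
      ← IsScalarTower.algebraMap_apply A p.ResidueField B₁']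
  haveI := hp'
  have hsq : Algebra.IsPushout B' B B₁' B₁ := by
    haveI : Algebra.IsPushout A B' p.ResidueField B₁' := hp'.symm
    exact (Algebra.IsPushout.comp_iff (R := A) (S := B') (R' := p.ResidueField) (S' := B₁') (T := B) (T' := B₁)).mp hp.symm
  haveI := hsq.symm
  haveI : IsOpenImmersion (Spec.map (CommRingCat.ofHom (algebraMap B₁' B₁))) :=
    MorphismProperty.of_isPullback (P := @IsOpenImmersion)
      (isPullback_SpecMap_of_isPushout _ _ _ _ (CommRingCat.isPushout_of_isPushout B' B₁' B B₁)).flip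
      (show IsOpenImmersion (Spec.map (CommRingCat.ofHom (algebraMap B' B))) from inferInstance)
  haveI := hp
  let e : p.Fiber B ≃ₐ[p.ResidueField] B₁ := Algebra.IsPushout.equiv A p.ResidueField B B₁
  haveI : IsNoetherianRing B₁ :=
    haveI : IsNoetherianRing (p.Fiber B) := Algebra.FiniteType.isNoetherianRing p.ResidueField (p.Fiber B)
    isNoetherianRing_of_ringEquiv _ e.toRingEquiv
  exact invertible_field (DualLib.GorRing.gorensteinRing_congr e.toRingEquiv (DualLib.GorLCI.gorensteinRing_fibre hlci p))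

end Groth.Agent.CohDer1.QFDiff
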