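import Groth.Agent.CohDer1.QFDiff.SplitApp
import Groth.Agent.CohDer1.QFDiff.Annih
import Groth.Agent.Disc12.SyntomicPres
import Mathlib.RingTheory.PicardGroup
import Mathlib.RingTheory.LocalProperties.Projective
import Mathlib.RingTheory.Support
import Mathlib.RingTheory.LocalRing.Module

/-!
# Invertibility of the dualizing module, fibre by fibre
-/

set_option autoImplicit false

universe u

open TensorProduct

namespace Groth.Agent.CohDer1.QFDiff

attribute [local instance] Algebra.TensorProduct.rightAlgebra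

/-- A finite module which is, near every maximal ideal, free on one element is invertible. -/
theorem invertible_of_locally {R M : Type u} [CommRing R] [IsNoetherianRing R] [AddCommGroup M] [Module R M]
    [Module.Finite R M]
    (h : ∀ q : Ideal R, q.IsMaximal → ∃ x : M, (∀ m : M, ∃ v ∉ q, v • m ∈ R ∙ x) ∧
      ∀ b : R, b • x = 0 → ∃ v ∉ q, v * b = 0) :
    Module.Invertible R M := by
  classical
  haveI : Module.FinitePresentation R M := Module.finitePresentation_of_finite R M
  haveI : Module.Projective R M := Module.projective_of_localization_maximal fun I hI => by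
    haveI := hI
    obtain ⟨x, hgen, hann⟩ := h I hI
    let f := LocalizedModule.mkLinearMap I.primeCompl M
    let φ := LinearMap.toSpanSingleton (Localization.AtPrime I) (LocalizedModule I.primeCompl M) (f x)
    have hbij : Function.Bijective φ := by
      refine ⟨(injective_iff_map_eq_zero φ).mpr fun r hr => ?_, fun l => ?_⟩
      · obtain ⟨b, s, rfl⟩ := IsLocalization.exists_mk'_eq I.primeCompl r
        have h1 : b • f x = 0 := by
          have : algebraMap R (Localization.AtPrime I) b • f x = 0 := by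
            rw [← IsLocalization.mk'_spec' (Localization.AtPrime I) b s, mul_smul]
            rw [show IsLocalization.mk' (Localization.AtPrime I) b s • f x = 0 from hr, smul_zero]
          rwa [algebraMap_smul] at this
        rw [← map_smul, ← map_zero f, IsLocalizedModule.eq_iff_exists I.primeCompl f] at h1
        obtain ⟨c, hc⟩ := h1
        rw [smul_zero, Submonoid.smul_def, smul_smul] at hc
        obtain ⟨v, hv, hvb⟩ := hann _ hc
        rw [IsLocalization.mk'_eq_zero_iff]
        exact ⟨⟨v * c, fun hh => (hI.isPrime.mem_or_mem hh).elim hv c.2⟩, by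
          show v * (c : R) * b = 0
          rw [mul_assoc]; exact hvb⟩
      · obtain ⟨⟨m, s⟩, hms⟩ := IsLocalizedModule.surj I.primeCompl f l
        obtain ⟨v, hv, hvm⟩ := hgen m
        obtain ⟨c, hc⟩ := Submodule.mem_span_singleton.mp hvm
        let t : I.primeCompl := ⟨v * s, fun hh => (hI.isPrime.mem_or_mem hh).elim hv s.2⟩
        refine ⟨IsLocalization.mk' _ c t, ?_⟩
        have h2 : (t : R) • l = c • f x := by
          show (v * (s : R)) • l = _
          rw [mul_smul, ← Submonoid.smul_def, hms, ← map_smul, ← hc, map_smul]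
        show IsLocalization.mk' (Localization.AtPrime I) c t • f x = l
        apply ((Module.End.isUnit_iff _).mp (IsLocalizedModule.map_units f t)).injective
        show (t : R) • IsLocalization.mk' (Localization.AtPrime I) c t • f x = (t : R) • l
        rw [h2, ← algebraMap_smul (Localization.AtPrime I) (t : R), smul_smul, IsLocalization.mk'_spec', algebraMap_smul]
    exact Module.Projective.of_equiv (LinearEquiv.ofBijective φ hbij)
  obtain ⟨n, f, g, -, -, hfg⟩ := Module.Finite.exists_comp_eq_id_of_projective R M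
  let χ : Fin n → Module.Dual R M := fun i => (LinearMap.proj i).comp g
  let nv : Fin n → M := fun i => f (Pi.single i 1)
  have hdual : ∀ x, ∑ i, χ i x • nv i = x := by
    intro x
    conv_rhs => rw [show x = f (g x) from (LinearMap.congr_fun hfg x).symm, pi_eq_sum_univ' (g x), map_sum]
    exact Finset.sum_congr rfl fun i _ => by rw [map_smul]; rfl
  have hswap : ∀ (ψ : Module.Dual R M) (a b : M), ψ a • b = ψ b • a := by
    intro ψ a b
    by_contra hne
    have hlt : (⊥ : Submodule R M).colon {ψ a • b - ψ b • a} ≠ ⊤ := by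
      intro htop
      have h1 : (1 : R) ∈ (⊥ : Submodule R M).colon {ψ a • b - ψ b • a} := htop ▸ Submodule.mem_top
      rw [Submodule.mem_colon_singleton, Submodule.mem_bot, one_smul, sub_eq_zero] at h1
      exact hne h1
    obtain ⟨q, hq, hle⟩ := Ideal.exists_le_maximal _ hlt
    obtain ⟨x, hgen, -⟩ := h q hq
    obtain ⟨va, hva, ha⟩ := hgen a
    obtain ⟨vb, hvb, hb⟩ := hgen b
    obtain ⟨ca, hca⟩ := Submodule.mem_span_singleton.mp ha
    obtain ⟨cb, hcb⟩ := Submodule.mem_span_singleton.mp hb
    have hkill : va * vb ∈ (⊥ : Submodule R M).colon {ψ a • b - ψ b • a} := by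
      rw [Submodule.mem_colon_singleton, Submodule.mem_bot, smul_sub, sub_eq_zero]
      calc (va * vb) • ψ a • b = ψ (va • a) • (vb • b) := by
            rw [map_smul, smul_eq_mul, smul_smul, smul_smul]; congr 1; ring
        _ = (ca * ψ x * cb) • x := by rw [← hca, ← hcb, map_smul, smul_eq_mul, smul_smul]
        _ = ψ (vb • b) • (va • a) := by rw [← hca, ← hcb, map_smul, smul_eq_mul, smul_smul]; congr 1; ring
        _ = (va * vb) • ψ b • a := by
            rw [map_smul, smul_eq_mul, smul_smul, smul_smul]; congr 1; ring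
    exact (hq.isPrime.mem_or_mem (hle hkill)).elim hva hvb
  have htop : (1 : R) ∈ LinearMap.range (contractLeft R M) := by
    by_contra hne
    obtain ⟨q, hq, hle⟩ := Ideal.exists_le_maximal (LinearMap.range (contractLeft R M))
      (fun h' => hne (h'.symm ▸ Submodule.mem_top))
    obtain ⟨x, hgen, hann⟩ := h q hq
    choose v hv hvm using fun i => hgen (nv i)
    choose c hc using fun i => Submodule.mem_span_singleton.mp (hvm i)
    have h1 : ((∏ i, v i) - ∑ i, χ i x * ((∏ j ∈ Finset.univ.erase i, v j) * c i)) • x = 0 := by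
      rw [sub_smul, sub_eq_zero, Finset.sum_smul]
      conv_lhs => rw [← hdual x, Finset.smul_sum]
      refine Finset.sum_congr rfl fun i _ => ?_
      rw [smul_comm, ← Finset.mul_prod_erase _ v (Finset.mem_univ i), mul_comm (v i), mul_smul, ← hc, smul_smul, smul_smul]
      congr 1
      ring
    obtain ⟨w, hw, hw0⟩ := hann _ h1
    have h2 : ((∏ i, v i) - ∑ i, χ i x * ((∏ j ∈ Finset.univ.erase i, v j) * c i)) ∈ q :=
      (hq.isPrime.mem_or_mem (hw0 ▸ q.zero_mem)).resolve_left hw
    have h3 : ∑ i, χ i x * ((∏ j ∈ Finset.univ.erase i, v j) * c i) ∈ q :=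
      q.sum_mem fun i _ => q.mul_mem_right _ (hle ⟨χ i ⊗ₜ x, rfl⟩)
    have h4 := q.add_mem h2 h3
    rw [sub_add_cancel] at h4
    obtain ⟨i, -, hi⟩ := hq.isPrime.prod_mem_iff.mp h4
    exact hv i hi
  obtain ⟨z, hz⟩ := htop
  refine ⟨⟨(injective_iff_map_eq_zero _).mpr fun t ht => ?_, fun r => ⟨r • z, by rw [map_smul, hz, smul_eq_mul, mul_one]⟩⟩⟩
  have key : ∀ (t z : Module.Dual R M ⊗[R] M), contractLeft R M z • t = contractLeft R M t • z := by
    intro t z
    induction t using TensorProduct.induction_on with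
    | zero => simp
    | add t t' ht ht' => rw [smul_add, ht, ht', map_add, add_smul]
    | tmul ψ m =>
      induction z using TensorProduct.induction_on with
      | zero => simp
      | add z z' hz hz' => rw [map_add, add_smul, hz, hz', smul_add]
      | tmul ξ p =>
        rw [contractLeft_apply, contractLeft_apply, ← TensorProduct.tmul_smul, hswap ξ p m, TensorProduct.tmul_smul,
          TensorProduct.smul_tmul', TensorProduct.smul_tmul']
        congr 1
        refine LinearMap.ext fun y => ?_
        rw [LinearMap.smul_apply, LinearMap.smul_apply, ← map_smul, hswap ξ m y, map_smul, smul_eq_mul, smul_eq_mul, mul_comm]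
  have := key t z
  rwa [hz, one_smul, ht, zero_smul] at this

variable {A B : Type u} [CommRing A] [CommRing B] [Algebra A B] [IsNoetherianRing B]

/-- A finite module with trivial relations near `q` and invertible fibre at `q` is locally free of rank one near `q`. -/
theorem locally_of_fibre {M : Type u} [AddCommGroup M] [Module B M] [Module A M] [IsScalarTower A B M]
    [Module.Finite B M] (q : Ideal B) [q.IsPrime]
    (hinv : Module.Invertible ((q.comap (algebraMap A B)).ResidueField ⊗[A] B)
      (((q.comap (algebraMap A B)).ResidueField ⊗[A] B) ⊗[B] M))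
    (hrel : ∀ {n : ℕ} (a : Fin n → A) (z : Fin n → M), ∑ i, a i • z i = 0 →
      ∃ v ∉ q, ∃ (κ : Type u) (_ : Fintype κ) (c : Fin n → κ → A) (y : κ → M),
        (∀ i, v • z i = ∑ k, c i k • y k) ∧ ∀ k, ∑ i, a i * c i k = 0) :
    ∃ x : M, (∀ m : M, ∃ v ∉ q, v • m ∈ B ∙ x) ∧ ∀ b : B, b • x = 0 → ∃ v ∉ q, v * b = 0 := by
  classical
  let p := q.comap (algebraMap A B)
  haveI : p.IsPrime := Ideal.IsPrime.comap _
  let B₁ := p.ResidueField ⊗[A] B
  let θ : B₁ →ₐ[A] q.ResidueField :=
    Algebra.TensorProduct.lift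
      ({ toRingHom := Ideal.ResidueField.map p q (algebraMap A B) rfl
         commutes' := fun a => Ideal.ResidueField.map_algebraMap _ _ _ _ _ } : p.ResidueField →ₐ[A] q.ResidueField)
      (IsScalarTower.toAlgHom A B q.ResidueField) fun _ _ => Commute.all _ _
  have hθ : ∀ b : B, θ ((1 : p.ResidueField) ⊗ₜ[A] b) = algebraMap B q.ResidueField b := fun b => by
    show Algebra.TensorProduct.lift _ _ _ _ = _
    rw [Algebra.TensorProduct.lift_tmul, map_one, one_mul]; rfl
  let Q : Ideal B₁ := RingHom.ker θ.toRingHom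
  haveI : Q.IsPrime := RingHom.ker_isPrime _
  have hQ : ∀ b : B, (1 : p.ResidueField) ⊗ₜ[A] b ∈ Q ↔ b ∈ q := fun b => by
    show θ _ = 0 ↔ _
    rw [hθ]; exact Ideal.algebraMap_residueField_eq_zero
  haveI : Module.Invertible B₁ (B₁ ⊗[B] M) := hinv
  -- a functional and an element
  obtain ⟨ψ, x, hψ⟩ : ∃ (ψ : Module.Dual B₁ (B₁ ⊗[B] M)) (x : M), ψ ((1 : B₁) ⊗ₜ[B] x) ∉ Q := by
    by_contra hcon
    push Not at hcon
    have hall : ∀ (ψ : Module.Dual B₁ (B₁ ⊗[B] M)) (w : B₁ ⊗[B] M), ψ w ∈ Q := by
      intro ψ w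
      induction w using TensorProduct.induction_on with
      | zero => simp
      | tmul c m =>
        rw [← mul_one c, ← smul_eq_mul, ← TensorProduct.smul_tmul', map_smul, smul_eq_mul]
        exact Q.mul_mem_left _ (hcon ψ m)
      | add a b ha hb => rw [map_add]; exact Q.add_mem ha hb
    obtain ⟨z, hz⟩ := (Module.Invertible.bijective (R := B₁) (M := B₁ ⊗[B] M)).2 1
    refine (inferInstance : Q.IsPrime).one_notMem (hz ▸ ?_)
    clear hz
    induction z using TensorProduct.induction_on with
    | zero => simp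
    | tmul ξ w => exact hall ξ w
    | add a b ha hb => rw [map_add]; exact Q.add_mem ha hb
  have hgen : ∀ m : M, ∃ v ∉ q, v • m ∈ B ∙ x := by
    let M' := M ⧸ (B ∙ x)
    let π : B₁ ⊗[B] M →ₗ[B₁] B₁ ⊗[B] M' := (B ∙ x).mkQ.baseChange B₁
    let θB : B₁ →ₗ[B] q.ResidueField :=
      { toFun := θ
        map_add' := map_add θ
        map_smul' := fun b c => by
          rw [RingHom.id_apply, Algebra.smul_def, Algebra.smul_def, map_mul]
          exact congrArg (· * θ c) (hθ b) }
    have h0 : ∀ m : M, (1 : q.ResidueField) ⊗ₜ[B] Submodule.Quotient.mk (p := B ∙ x) m = 0 := by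
      intro m
      have h1 : ψ ((1 : B₁) ⊗ₜ[B] x) • ((1 : B₁) ⊗ₜ[B] Submodule.Quotient.mk (p := B ∙ x) m) = 0 := by
        have h := congrArg π (dual_smul_comm ψ ((1 : B₁) ⊗ₜ[B] x) ((1 : B₁) ⊗ₜ[B] m))
        rw [map_smul, map_smul] at h
        refine h.trans ?_
        rw [show π ((1 : B₁) ⊗ₜ[B] x) = (1 : B₁) ⊗ₜ[B] Submodule.Quotient.mk (p := B ∙ x) x from rfl,
          (Submodule.Quotient.mk_eq_zero _).mpr (Submodule.mem_span_singleton_self x), TensorProduct.tmul_zero, smul_zero]
      rw [TensorProduct.smul_tmul', smul_eq_mul, mul_one] at h1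
      have h2 := congrArg (LinearMap.rTensor M' θB) h1
      rw [LinearMap.rTensor_tmul, map_zero] at h2
      have h3 := congrArg (fun w => (θ (ψ ((1 : B₁) ⊗ₜ[B] x)))⁻¹ • w) h2
      simp only [smul_zero, TensorProduct.smul_tmul'] at h3
      have hne : θ (ψ ((1 : B₁) ⊗ₜ[B] x)) ≠ 0 := hψ
      rwa [show θB (ψ ((1 : B₁) ⊗ₜ[B] x)) = θ (ψ ((1 : B₁) ⊗ₜ[B] x)) from rfl, smul_eq_mul, inv_mul_cancel₀ hne] at h3
    have hsub : Subsingleton (q.ResidueField ⊗[B] M') := subsingleton_of_forall_eq 0 fun w => by
      induction w using TensorProduct.induction_on with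
      | zero => rfl
      | tmul c m' =>
        obtain ⟨m, rfl⟩ := Submodule.Quotient.mk_surjective _ m'
        rw [← mul_one c, ← smul_eq_mul, ← TensorProduct.smul_tmul', h0, smul_zero]
      | add a b ha hb => rw [ha, hb, add_zero]
    intro m
    have hns : (⟨q, inferInstance⟩ : PrimeSpectrum B) ∉ Module.support B M' := fun hmem =>
      not_nontrivial_iff_subsingleton.mpr hsub (Module.mem_support_iff_nontrivial_residueField_tensorProduct _ |>.mp hmem)
    obtain ⟨v, hv, hv0⟩ := (Module.notMem_support_iff'.mp hns) (Submodule.Quotient.mk m)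
    exact ⟨v, hv, by rwa [← Submodule.Quotient.mk_smul, Submodule.Quotient.mk_eq_zero] at hv0⟩
  refine ⟨x, hgen, fun b hb => ?_⟩
  let I : Ideal B := LinearMap.ker (LinearMap.toSpanSingleton B M x)
  have hstep : ∀ b ∈ I, ∃ t ∉ q, t * b ∈ (⊥ : Ideal B) ⊔ p.map (algebraMap A B) * I := by
    intro b hb
    have hb0 : b • x = 0 := hb
    -- in the fibre
    have hw : ψ ((1 : B₁) ⊗ₜ[B] x) * ((1 : p.ResidueField) ⊗ₜ[A] b) = 0 := by
      have h := congrArg (fun w => ψ ((1 : B₁) ⊗ₜ[B] w)) hb0
      simp only [TensorProduct.tmul_smul, TensorProduct.tmul_zero, map_zero] at h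
      rw [← algebraMap_smul B₁ b ((1 : B₁) ⊗ₜ[B] x), map_smul, smul_eq_mul, mul_comm] at h
      exact h
    obtain ⟨s, hs, b', hb'⟩ := Disc12.exists_fiber_smul_eq p (ψ ((1 : B₁) ⊗ₜ[B] x))
    have hb'q : b' ∉ q := by
      intro h'
      rw [← hQ] at h'
      have h'' : algebraMap A B₁ s * ψ ((1 : B₁) ⊗ₜ[B] x) ∈ Q := hb' ▸ h'
      refine ((inferInstance : Q.IsPrime).mem_or_mem h'').elim (fun h1 => hs ?_) hψ
      have h1' : θ (algebraMap A B₁ s) = 0 := h1
      rw [AlgHom.commutes, IsScalarTower.algebraMap_apply A B q.ResidueField] at h1'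
      exact (Ideal.algebraMap_residueField_eq_zero (I := q) (x := algebraMap A B s)).mp h1'
    have hzero : (1 : p.ResidueField) ⊗ₜ[A] (b' * b) = 0 := by
      rw [← one_mul (1 : p.ResidueField), ← Algebra.TensorProduct.tmul_mul_tmul, ← hb', mul_assoc, hw, mul_zero]
    obtain ⟨t, ht, htb⟩ := Disc12.exists_smul_mem_map_of_fiber_eq_zero p _ hzero
    rw [Ideal.map, Ideal.span, Submodule.mem_span_image_iff_exists_fun] at htb
    obtain ⟨T, hT, c, hc⟩ := htb
    let e := T.equivFin
    have hrel0 : ∑ i, ((e.symm i).1 : A) • (c (e.symm i) • x) = 0 := by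
      have hsum : ∑ i, c (e.symm i) * algebraMap A B (e.symm i).1 = t • (b' * b) := by
        rw [← hc, ← e.symm.sum_comp]; rfl
      calc ∑ i, ((e.symm i).1 : A) • (c (e.symm i) • x)
          = ∑ i, (c (e.symm i) * algebraMap A B (e.symm i).1) • x := Finset.sum_congr rfl fun i _ => by
            rw [← algebraMap_smul B ((e.symm i).1 : A), smul_smul, mul_comm]
        _ = (t • (b' * b)) • x := by rw [← hsum, Finset.sum_smul]
        _ = 0 := by rw [Algebra.smul_def, mul_smul, mul_smul, hb0, smul_zero, smul_zero]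
    obtain ⟨v', hv', κ, _, a, y, hy, ha⟩ := hrel _ _ hrel0
    choose vy hvy hyx using fun k => hgen (y k)
    choose ey hey using fun k => Submodule.mem_span_singleton.mp (hyx k)
    let v'' : B := ∏ k, vy k
    have hy' : ∀ k, ∃ ek : B, ek • x = v'' • y k := fun k => ⟨(∏ j ∈ Finset.univ.erase k, vy j) * ey k, by
      rw [mul_smul, hey k, smul_smul, mul_comm, Finset.mul_prod_erase _ vy (Finset.mem_univ k)]⟩
    choose ek hek using hy'
    refine ⟨v'' * v' * (algebraMap A B t * b'), fun hh => ?_, Submodule.mem_sup_right ?_⟩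
    · rcases (inferInstance : q.IsPrime).mem_or_mem hh with h1 | h1
      · rcases (inferInstance : q.IsPrime).mem_or_mem h1 with h2 | h2
        · obtain ⟨k, -, hk⟩ := Ideal.IsPrime.prod_mem_iff.mp h2
          exact hvy k hk
        · exact hv' h2
      · exact ((inferInstance : q.IsPrime).mem_or_mem h1).elim ht hb'q
    · have hd : ∀ i, v'' * v' * c (e.symm i) - ∑ k, algebraMap A B (a i k) * ek k ∈ I := fun i => by
        show (v'' * v' * c (e.symm i) - ∑ k, algebraMap A B (a i k) * ek k) • x = 0
        rw [sub_smul, Finset.sum_smul, mul_smul, mul_smul, hy i, Finset.smul_sum, sub_eq_zero]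
        exact Finset.sum_congr rfl fun k _ => by rw [mul_smul, hek, algebraMap_smul, smul_comm]
      have heq : v'' * v' * (algebraMap A B t * b') * b =
          ∑ i, algebraMap A B (e.symm i).1 * (v'' * v' * c (e.symm i) - ∑ k, algebraMap A B (a i k) * ek k) := by
        have h5 : ∑ i, algebraMap A B (e.symm i).1 * ∑ k, algebraMap A B (a i k) * ek k = 0 := by
          simp only [Finset.mul_sum, ← mul_assoc, ← map_mul]
          rw [Finset.sum_comm]
          refine Finset.sum_eq_zero fun k _ => ?_
          rw [← Finset.sum_mul, ← map_sum, ha k, map_zero, zero_mul]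
        simp only [mul_sub, Finset.sum_sub_distrib, h5, sub_zero]
        rw [show v'' * v' * (algebraMap A B t * b') * b = v'' * v' * (t • (b' * b)) by rw [Algebra.smul_def]; ring,
          ← hc, ← e.symm.sum_comp, Finset.mul_sum]
        exact Finset.sum_congr rfl fun i _ => by rw [smul_eq_mul]; ring
      rw [heq]
      exact Ideal.sum_mem _ fun i _ => Ideal.mul_mem_mul (Ideal.mem_map_of_mem _ (hT (e.symm i).2)) (hd i)
  obtain ⟨G, hG, hG0⟩ := Disc12.exists_smul_mem_of_le q I ⊥ (p.map (algebraMap A B)) (IsNoetherian.noetherian I)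
    (Ideal.map_comap_le) hstep
  exact ⟨G, hG, by simpa using hG0 b hb⟩

end Groth.Agent.CohDer1.QFDiff
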