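import Groth.Prelude.Def_QFDual
import Mathlib.Algebra.Module.FinitePresentation
import Mathlib.RingTheory.TensorProduct.IsBaseChangeHom
import Mathlib.RingTheory.Trace.Basic

/-!
# Base change of the relative dualizing module of a finite algebra
-/

set_option autoImplicit false

universe u

open TensorProduct

namespace Groth.Agent.CohDer1.QFDiff

/-- The dual of a finitely presented module commutes with flat base change. -/
theorem dual_isBaseChange_of_flat {R A V W : Type u} [CommRing R] [CommRing A] [Algebra R A] [AddCommGroup V] [Module R V]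
    [AddCommGroup W] [Module R W] [Module A W] [IsScalarTower R A W] {j : V →ₗ[R] W} (ibc : IsBaseChange A j)
    [Module.Flat R A] [Module.FinitePresentation R V] : IsBaseChange A ibc.toDual := by
  refine (IsBaseChange.iff_of_equiv_comm (S := A) (LinearEquiv.refl R (Module.Dual R V))
    (LinearEquiv.congrRight (AlgebraTensorModule.rid R A A) ≪≫ₗ LinearEquiv.congrLeft A A ibc.equiv) ?_).mp
    (Module.FinitePresentation.isBaseChange_map R V R A)
  refine LinearMap.ext fun φ => ibc.algHom_ext _ _ fun v => ?_
  simp [IsBaseChange.toDual_comp_apply, IsBaseChange.equiv_symm_apply, LinearEquiv.congrLeft, LinearEquiv.congrRight,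
    Algebra.algebraMap_eq_smul_one]

/-- Base change along a pushout square of rings: a module that is the base change along the bottom map is the
base change along the top map. -/
theorem isBaseChange_of_pushout {A A₁ B B₁ M M' : Type u} [CommRing A] [CommRing A₁] [CommRing B] [CommRing B₁]
    [Algebra A A₁] [Algebra A B] [Algebra A₁ B₁] [Algebra B B₁] [Algebra A B₁] [IsScalarTower A A₁ B₁]
    [IsScalarTower A B B₁] (h : Algebra.IsPushout A A₁ B B₁) [AddCommGroup M] [Module A M] [Module B M]
    [IsScalarTower A B M] [AddCommGroup M'] [Module A M'] [Module A₁ M'] [Module B M'] [Module B₁ M']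
    [IsScalarTower A A₁ M'] [IsScalarTower A B M'] [IsScalarTower A₁ B₁ M'] [IsScalarTower B B₁ M']
    (f : M →ₗ[B] M') (hf : IsBaseChange A₁ (f.restrictScalars A)) : IsBaseChange B₁ f := by
  apply IsBaseChange.of_lift_unique
  intro Q _ _ _ _ r
  letI : Module A₁ Q := Module.compHom Q (algebraMap A₁ B₁)
  haveI : IsScalarTower A₁ B₁ Q := IsScalarTower.of_algebraMap_smul fun _ _ => rfl
  letI : Module A Q := Module.compHom Q (algebraMap A B₁)
  haveI : IsScalarTower A A₁ Q := IsScalarTower.of_algebraMap_smul fun a x => by
    show algebraMap A₁ B₁ (algebraMap A A₁ a) • x = algebraMap A B₁ a • x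
    rw [← IsScalarTower.algebraMap_apply]
  haveI : IsScalarTower A B Q := IsScalarTower.of_algebraMap_smul fun a x => by
    show algebraMap A B a • x = algebraMap A B₁ a • x
    rw [← algebraMap_smul B₁ (algebraMap A B a) x, ← IsScalarTower.algebraMap_apply]
  let q : M' →ₗ[A₁] Q := hf.lift (r.restrictScalars A)
  have hq : ∀ m, q (f m) = r m := fun m => hf.lift_eq _ m
  have hlin : ∀ (s : B₁) (x : M'), q (s • x) = s • q x := by
    intro s
    induction s using h.out.inductionOn with
    | zero => intro x; simp
    | tmul b =>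
      intro x
      show q (algebraMap B B₁ b • x) = algebraMap B B₁ b • q x
      induction x using hf.inductionOn with
      | zero => simp
      | tmul m =>
        rw [LinearMap.restrictScalars_apply, algebraMap_smul, ← map_smul, hq, hq, map_smul, algebraMap_smul]
      | smul c y hy => rw [smul_comm, map_smul, hy, map_smul, smul_comm]
      | add y z hy hz => rw [smul_add, map_add, hy, hz, map_add, smul_add]
    | smul c t ht => intro x; rw [smul_assoc, map_smul, ht, smul_assoc]
    | add t t' ht ht' => intro x; rw [add_smul, map_add, ht, ht', add_smul]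
  refine ⟨{ toFun := q, map_add' := map_add q, map_smul' := hlin }, LinearMap.ext hq, fun g hg => ?_⟩
  refine LinearMap.ext fun x => ?_
  have : g.restrictScalars A₁ = q := hf.algHom_ext _ _ fun m => by
    rw [LinearMap.restrictScalars_apply, LinearMap.restrictScalars_apply, hq]
    exact LinearMap.congr_fun hg m
  exact LinearMap.congr_fun this x

variable {A B A₁ B₁ : Type u} [CommRing A] [CommRing B] [CommRing A₁] [CommRing B₁] [Algebra A B]
  [Algebra A A₁] [Algebra B B₁] [Algebra A₁ B₁] [Algebra A B₁] [IsScalarTower A A₁ B₁] [IsScalarTower A B B₁]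
  [Module B (Disc.Omega A₁ B₁)] [IsScalarTower B B₁ (Disc.Omega A₁ B₁)]

/-- `QFDual.bcFin` as a linear map over the source algebra. -/
noncomputable def bcLin (h : Algebra.IsPushout A A₁ B B₁) : Disc.Omega A B →ₗ[B] Disc.Omega A₁ B₁ where
  toFun := QFDual.bcFin h
  map_add' := map_add _
  map_smul' b φ := by rw [LinearMap.map_smulₛₗ, algebraMap_smul, RingHom.id_apply]

theorem bcLin_apply (h : Algebra.IsPushout A A₁ B B₁) (φ : Disc.Omega A B) : bcLin h φ = QFDual.bcFin h φ := rfl

theorem bcLin_isBaseChange (h : Algebra.IsPushout A A₁ B B₁) (hd : IsBaseChange A₁ h.out.toDual) :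
    IsBaseChange B₁ (bcLin h) := by
  letI : Module A (Disc.Omega A B) := Module.compHom _ (algebraMap A B)
  haveI : IsScalarTower A B (Disc.Omega A B) := IsScalarTower.of_algebraMap_smul fun _ _ => rfl
  letI : Module A (Disc.Omega A₁ B₁) := Module.compHom _ (algebraMap A B₁)
  letI : Module A₁ (Disc.Omega A₁ B₁) := Module.compHom _ (algebraMap A₁ B₁)
  haveI : IsScalarTower A₁ B₁ (Disc.Omega A₁ B₁) := IsScalarTower.of_algebraMap_smul fun _ _ => rfl
  haveI : IsScalarTower A A₁ (Disc.Omega A₁ B₁) := IsScalarTower.of_algebraMap_smul fun a x => by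
    show algebraMap A₁ B₁ (algebraMap A A₁ a) • x = algebraMap A B₁ a • x
    rw [← IsScalarTower.algebraMap_apply]
  haveI : IsScalarTower A B (Disc.Omega A₁ B₁) := IsScalarTower.of_algebraMap_smul fun a x => by
    show algebraMap A B a • x = algebraMap A B₁ a • x
    rw [← algebraMap_smul B₁ (algebraMap A B a) x, ← IsScalarTower.algebraMap_apply]
  let eM : Module.Dual A B ≃ₗ[A] Disc.Omega A B :=
    { toFun := fun φ => ⟨φ⟩
      invFun := fun φ => φ.toLinearMap
      left_inv := fun _ => rfl
      right_inv := fun _ => rfl
      map_add' := fun _ _ => rfl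
      map_smul' := fun a φ => Disc.Omega.ext (LinearMap.ext fun x => by
        show a • φ x = φ (algebraMap A B a * x)
        rw [← Algebra.smul_def, map_smul]) }
  let eN : Module.Dual A₁ B₁ ≃ₗ[A₁] Disc.Omega A₁ B₁ :=
    { toFun := fun φ => ⟨φ⟩
      invFun := fun φ => φ.toLinearMap
      left_inv := fun _ => rfl
      right_inv := fun _ => rfl
      map_add' := fun _ _ => rfl
      map_smul' := fun a φ => Disc.Omega.ext (LinearMap.ext fun x => by
        show a • φ x = φ (algebraMap A₁ B₁ a * x)
        rw [← Algebra.smul_def, map_smul]) }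
  exact isBaseChange_of_pushout h (bcLin h)
    ((IsBaseChange.iff_of_equiv_comm eM eN (LinearMap.ext fun φ => rfl)).mp hd)

theorem omegaBC_bijective {C : Type u} [CommRing C] [Algebra B₁ C] [Algebra B C] [IsScalarTower B B₁ C]
    (h : Algebra.IsPushout A A₁ B B₁) (hd : IsBaseChange A₁ h.out.toDual) :
    Function.Bijective (QFDual.omegaBC (B₁ := C) h) := by
  have hb := bcLin_isBaseChange h hd
  have : ⇑(QFDual.omegaBC (B₁ := C) h) = ⇑(hb.tensorEquiv C).symm := by
    funext x
    induction x using TensorProduct.induction_on with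
    | zero => simp
    | tmul c φ =>
      rw [QFDual.omegaBC_tmul, eq_comm, LinearEquiv.symm_apply_eq]
      simp [IsBaseChange.tensorEquiv, ← bcLin_apply, IsBaseChange.equiv_symm_apply]
    | add x y hx hy => rw [map_add, map_add, hx, hy]
  rw [this]
  exact LinearEquiv.bijective _

/-- For a finite free algebra the trace form is carried to the trace form. -/
theorem bcFin_trace (h : Algebra.IsPushout A A₁ B B₁) [Module.Finite A B] [Module.Free A B] [Module.Finite A₁ B₁]
    [Module.Free A₁ B₁] : QFDual.bcFin h (Disc.Omega.trace A B) = Disc.Omega.trace A₁ B₁ := by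
  apply Disc.Omega.ext
  refine h.out.algHom_ext _ _ fun b => ?_
  classical
  show (QFDual.bcFin h (Disc.Omega.trace A B)).toLinearMap (algebraMap B B₁ b) = Algebra.trace A₁ B₁ (algebraMap B B₁ b)
  rw [QFDual.bcFin_apply_algebraMap]
  let bas := Module.Free.chooseBasis A B
  show algebraMap A A₁ (Algebra.trace A B b) = _
  rw [Algebra.trace_eq_matrix_trace bas, Algebra.trace_eq_matrix_trace (h.out.basis bas), Matrix.trace, Matrix.trace, map_sum]
  refine Finset.sum_congr rfl fun i _ => ?_
  simp only [Matrix.diag_apply, Algebra.leftMulMatrix_eq_repr_mul, IsBaseChange.basis_apply, AlgHom.toLinearMap_apply,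
    IsScalarTower.coe_toAlgHom', ← map_mul]
  exact (h.out.basis_repr_comp_apply bas (b * bas i) i).symm

end Groth.Agent.CohDer1.QFDiff

namespace Groth.Agent.CohDer1.QFDiff

/-- The dualizing module of a finite algebra is finite, provided the dual over the base is. -/
theorem omega_finite (A B : Type u) [CommRing A] [CommRing B] [Algebra A B] [Module.Finite A (Module.Dual A B)] :
    Module.Finite B (Disc.Omega A B) := by
  letI : Module A (Disc.Omega A B) := Module.compHom _ (algebraMap A B)
  haveI : IsScalarTower A B (Disc.Omega A B) := IsScalarTower.of_algebraMap_smul fun _ _ => rfl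
  let g : Module.Dual A B →ₗ[A] Disc.Omega A B :=
    { toFun := fun φ => ⟨φ⟩
      map_add' := fun _ _ => rfl
      map_smul' := fun a φ => Disc.Omega.ext (LinearMap.ext fun x => by
        show a • φ x = φ (algebraMap A B a * x)
        rw [← Algebra.smul_def, map_smul]) }
  haveI : Module.Finite A (Disc.Omega A B) := Module.Finite.of_surjective g fun φ => ⟨φ.toLinearMap, rfl⟩
  exact Module.Finite.of_restrictScalars_finite A B _

end Groth.Agent.CohDer1.QFDiff
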