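import Groth.Prelude.Def_QFDual

/-!
# The dualizing module of a product
-/

set_option autoImplicit false

universe u

open TensorProduct

namespace Groth.Agent.CohDer1.QFDiff

variable {A B' B C' C : Type u} [CommRing A] [CommRing B'] [CommRing B] [CommRing C'] [CommRing C]
  [Algebra A B'] [Algebra B' B] [Algebra A B] [IsScalarTower A B' B] [Algebra A C'] [Algebra C' C] [Algebra A C]
  [IsScalarTower A C' C] [Algebra (B' × C') (B × C)] [IsScalarTower A (B' × C') (B × C)]

theorem omega_prod (halg : algebraMap (B' × C') (B × C) = (algebraMap B' B).prodMap (algebraMap C' C)) :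
    ∃ e : QFDual.omega A (B' × C') (B × C) ≃ₗ[A] QFDual.omega A B' B × QFDual.omega A C' C,
      ∀ (b : B) (c : C) (φ : Disc.Omega A (B' × C')), e ((b, c) ⊗ₜ[B' × C'] φ) =
        (b ⊗ₜ[B'] Disc.Omega.mk (φ.toLinearMap ∘ₗ LinearMap.inl A B' C'),
          c ⊗ₜ[C'] Disc.Omega.mk (φ.toLinearMap ∘ₗ LinearMap.inr A B' C')) := by
  let pl : Disc.Omega A (B' × C') →+ Disc.Omega A B' :=
    { toFun := fun φ => ⟨φ.toLinearMap ∘ₗ LinearMap.inl A B' C'⟩
      map_zero' := rfl
      map_add' := fun _ _ => rfl }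
  let pr : Disc.Omega A (B' × C') →+ Disc.Omega A C' :=
    { toFun := fun φ => ⟨φ.toLinearMap ∘ₗ LinearMap.inr A B' C'⟩
      map_zero' := rfl
      map_add' := fun _ _ => rfl }
  let il : Disc.Omega A B' →+ Disc.Omega A (B' × C') :=
    { toFun := fun φ => ⟨φ.toLinearMap ∘ₗ LinearMap.fst A B' C'⟩
      map_zero' := rfl
      map_add' := fun _ _ => rfl }
  let ir : Disc.Omega A C' →+ Disc.Omega A (B' × C') :=
    { toFun := fun φ => ⟨φ.toLinearMap ∘ₗ LinearMap.snd A B' C'⟩
      map_zero' := rfl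
      map_add' := fun _ _ => rfl }
  have hr : ∀ (r : B' × C') (x : B × C), r • x = (r.1 • x.1, r.2 • x.2) := fun r x => by
    rw [Algebra.smul_def, halg, Algebra.smul_def, Algebra.smul_def]; rfl
  have hpl : ∀ (r : B' × C') φ, pl (r • φ) = r.1 • pl φ := fun r φ => Disc.Omega.ext (LinearMap.ext fun x => by
    show φ.toLinearMap (r * (x, 0)) = φ.toLinearMap (r.1 * x, 0)
    rw [← Prod.mk.eta (p := r), Prod.mk_mul_mk, mul_zero])
  have hpr : ∀ (r : B' × C') φ, pr (r • φ) = r.2 • pr φ := fun r φ => Disc.Omega.ext (LinearMap.ext fun x => by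
    show φ.toLinearMap (r * (0, x)) = φ.toLinearMap (0, r.2 * x)
    rw [← Prod.mk.eta (p := r), Prod.mk_mul_mk, mul_zero])
  have hil : ∀ (r : B') φ, il (r • φ) = ((r, (0 : C')) : B' × C') • il φ := fun r φ => Disc.Omega.ext (LinearMap.ext fun _ => rfl)
  have hir : ∀ (r : C') φ, ir (r • φ) = (((0 : B'), r) : B' × C') • ir φ := fun r φ => Disc.Omega.ext (LinearMap.ext fun _ => rfl)
  let F : QFDual.omega A (B' × C') (B × C) →+ QFDual.omega A B' B × QFDual.omega A C' C :=
    TensorProduct.liftAddHom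
      (AddMonoidHom.mk' (fun (x : B × C) => AddMonoidHom.mk' (fun φ => (x.1 ⊗ₜ[B'] pl φ, x.2 ⊗ₜ[C'] pr φ))
        (fun φ ψ => by simp [TensorProduct.tmul_add]))
        (fun x y => AddMonoidHom.ext fun φ => by simp [TensorProduct.add_tmul]))
      (fun r x φ => by
        simp only [AddMonoidHom.mk'_apply, hr, hpl, hpr, TensorProduct.smul_tmul])
  let Gl : QFDual.omega A B' B →+ QFDual.omega A (B' × C') (B × C) :=
    TensorProduct.liftAddHom
      (AddMonoidHom.mk' (fun (b : B) => AddMonoidHom.mk' (fun φ => (b, (0 : C)) ⊗ₜ[B' × C'] il φ)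
        (fun φ ψ => by simp [TensorProduct.tmul_add]))
        (fun x y => AddMonoidHom.ext fun φ => by
          simp only [AddMonoidHom.mk'_apply, AddMonoidHom.add_apply, ← TensorProduct.add_tmul, Prod.mk_add_mk, add_zero]))
      (fun r x φ => by
        simp only [AddMonoidHom.mk'_apply, hil, ← TensorProduct.smul_tmul, hr, smul_zero])
  let Gr : QFDual.omega A C' C →+ QFDual.omega A (B' × C') (B × C) :=
    TensorProduct.liftAddHom
      (AddMonoidHom.mk' (fun (c : C) => AddMonoidHom.mk' (fun φ => ((0 : B), c) ⊗ₜ[B' × C'] ir φ)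
        (fun φ ψ => by simp [TensorProduct.tmul_add]))
        (fun x y => AddMonoidHom.ext fun φ => by
          simp only [AddMonoidHom.mk'_apply, AddMonoidHom.add_apply, ← TensorProduct.add_tmul, Prod.mk_add_mk, add_zero]))
      (fun r x φ => by
        simp only [AddMonoidHom.mk'_apply, hir, ← TensorProduct.smul_tmul, hr, smul_zero])
  let G : QFDual.omega A B' B × QFDual.omega A C' C →+ QFDual.omega A (B' × C') (B × C) := Gl.coprod Gr
  have hGF : ∀ z, G (F z) = z := by
    intro z
    induction z using TensorProduct.induction_on with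
    | zero => simp [Prod.ext_iff]
    | tmul x φ =>
      obtain ⟨b, c⟩ := x
      show (b, (0 : C)) ⊗ₜ[B' × C'] il (pl φ) + ((0 : B), c) ⊗ₜ[B' × C'] ir (pr φ) = (b, c) ⊗ₜ[B' × C'] φ
      have h1 : il (pl φ) = ((1, 0) : B' × C') • φ := Disc.Omega.ext (LinearMap.ext fun x => by
        show φ.toLinearMap (x.1, 0) = φ.toLinearMap (1 * x.1, 0 * x.2)
        rw [one_mul, zero_mul])
      have h2 : ir (pr φ) = ((0, 1) : B' × C') • φ := Disc.Omega.ext (LinearMap.ext fun x => by
        show φ.toLinearMap (0, x.2) = φ.toLinearMap (0 * x.1, 1 * x.2)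
        rw [one_mul, zero_mul])
      rw [h1, h2, ← TensorProduct.smul_tmul, ← TensorProduct.smul_tmul, ← TensorProduct.add_tmul, hr, hr]
      simp
    | add x y hx hy => rw [map_add, map_add, hx, hy]
  have hFl : ∀ p, F (Gl p) = (p, 0) := by
    intro p
    induction p using TensorProduct.induction_on with
    | zero => simp [Prod.ext_iff]
    | tmul b φ =>
      refine Prod.ext ?_ ?_
      · show b ⊗ₜ[B'] pl (il φ) = b ⊗ₜ[B'] φ
        rfl
      · show (0 : C) ⊗ₜ[C'] pr (il φ) = 0
        exact TensorProduct.zero_tmul _ _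
    | add x y hx hy => rw [map_add, map_add, hx, hy, Prod.mk_add_mk, add_zero]
  have hFr : ∀ q, F (Gr q) = (0, q) := by
    intro q
    induction q using TensorProduct.induction_on with
    | zero => simp [Prod.ext_iff]
    | tmul c φ =>
      refine Prod.ext ?_ ?_
      · show (0 : B) ⊗ₜ[B'] pl (ir φ) = 0
        exact TensorProduct.zero_tmul _ _
      · show c ⊗ₜ[C'] pr (ir φ) = c ⊗ₜ[C'] φ
        rfl
    | add x y hx hy => rw [map_add, map_add, hx, hy, Prod.mk_add_mk, add_zero]
  refine ⟨{ toFun := F, map_add' := map_add F, map_smul' := fun a z => ?_, invFun := G, left_inv := hGF,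
            right_inv := fun w => ?_ }, fun b c φ => rfl⟩
  · show F (a • z) = a • F z
    induction z using TensorProduct.induction_on with
    | zero => simp [Prod.ext_iff]
    | tmul x φ => rfl
    | add x y hx hy => rw [smul_add, map_add, hx, hy, map_add, smul_add]
  · show F (Gl w.1 + Gr w.2) = w
    rw [map_add, hFl, hFr, Prod.mk_add_mk, zero_add, add_zero]

end Groth.Agent.CohDer1.QFDiff
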