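import Groth.Prelude.Def_QFDual
import Groth.Agent.HenselLib.Idem
import Groth.Agent.Matlis6.CompletionNoetherian
import Groth.Agent.CohDer1.QFDiff.Omega
import Mathlib.RingTheory.AdicCompletion.LocalRing
import Mathlib.RingTheory.AdicCompletion.AsTensorProduct
import Mathlib.RingTheory.Henselian
import Mathlib.RingTheory.Artinian.Ring
import Mathlib.RingTheory.Flat.EquationalCriterion
import Mathlib.LinearAlgebra.TensorProduct.Finiteness
import Mathlib.LinearAlgebra.Contraction

/-!
# Multiplications of a finite algebra which factor through a free module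
-/

set_option autoImplicit false

universe u

open TensorProduct IsLocalRing

namespace Groth.Agent.CohDer1.QFDiff

/-- Multiplication by `s` on `B'` factors `A`-linearly through a finite free module. -/
def FactorsFree (A : Type u) {B' : Type u} [CommRing A] [CommRing B'] [Algebra A B'] (s : B') : Prop :=
  ∃ (ι : Type u) (_ : Fintype ι) (f : B' →ₗ[A] (ι → A)) (g : (ι → A) →ₗ[A] B'), ∀ x, g (f x) = s * x

variable {A B' : Type u} [CommRing A] [CommRing B'] [Algebra A B']

theorem factorsFree_of_mem_range (s : B')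
    (hs : LinearMap.mulLeft A s ∈ LinearMap.range (dualTensorHom A B' B')) : FactorsFree A s := by
  obtain ⟨z, hz⟩ := hs
  obtain ⟨T, hT⟩ := TensorProduct.exists_finset z
  refine ⟨T, inferInstance, LinearMap.pi fun i => i.1.1, Fintype.linearCombination A fun i => i.1.2, fun x => ?_⟩
  have h := LinearMap.congr_fun hz x
  rw [hT, map_sum, LinearMap.sum_apply, LinearMap.mulLeft_apply] at h
  rw [Fintype.linearCombination_apply, ← h, ← Finset.sum_coe_sort T]
  exact Finset.sum_congr rfl fun i _ => by rw [dualTensorHom_apply]; rfl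

/-- Over a complete local base, the factor of a finite algebra at a maximal ideal is cut out by an idempotent. -/
theorem exists_idempotent_at {R C : Type u} [CommRing R] [IsLocalRing R] [HenselianRing R (maximalIdeal R)]
    [CommRing C] [Algebra R C] [Module.Finite R C] (Q : Ideal C) [hQ : Q.IsMaximal] :
    ∃ e : C, IsIdempotentElem e ∧ e ∉ Q ∧ ∀ n : Ideal C, n.IsMaximal → n ≠ Q → e ∈ n := by
  classical
  have hle : ∀ n : Ideal C, n.IsMaximal → (maximalIdeal R).map (algebraMap R C) ≤ n := fun n hn => by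
    haveI := hn
    rw [Ideal.map_le_iff_le_comap]
    exact (IsLocalRing.eq_maximalIdeal (Ideal.isMaximal_comap_of_isIntegral_of_isMaximal n)).ge
  let J := (maximalIdeal R).map (algebraMap R C)
  letI : Field (R ⧸ maximalIdeal R) := Ideal.Quotient.field _
  haveI : Module.Finite (R ⧸ maximalIdeal R) (C ⧸ J) := Module.Finite.of_restrictScalars_finite R _ _
  haveI : IsArtinianRing (C ⧸ J) := IsArtinianRing.of_finite (R ⧸ maximalIdeal R) _
  haveI hQJ : (Q.map (Ideal.Quotient.mk J)).IsMaximal :=
    Ideal.IsMaximal.map_of_surjective_of_ker_le Ideal.Quotient.mk_surjective (by rw [Ideal.mk_ker]; exact hle Q hQ)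
  let S : Finset (Ideal (C ⧸ J)) :=
    ((IsArtinianRing.setOfPred_isMaximal_finite (C ⧸ J)).toFinset).erase (Q.map (Ideal.Quotient.mk J))
  have hb : ¬ S.inf id ≤ Q.map (Ideal.Quotient.mk J) := by
    intro h
    obtain ⟨n, hn, hnQ⟩ := hQJ.isPrime.inf_le'.mp h
    rw [Finset.mem_erase, Set.Finite.mem_toFinset] at hn
    exact hn.1 (hn.2.eq_of_le hQJ.ne_top hnQ)
  obtain ⟨b, hbS, hbQ⟩ := SetLike.not_le_iff_exists.mp hb
  obtain ⟨n, y, hy⟩ := IsArtinian.exists_pow_succ_smul_dvd b (1 : C ⧸ J)
  simp only [smul_eq_mul, mul_one] at hy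
  have hpow : ∀ i : ℕ, b ^ (n + i) * y ^ i = b ^ n := by
    intro i
    induction i with
    | zero => simp
    | succ i ih =>
      rw [show n + (i + 1) = n.succ + i by omega, pow_add, show y ^ (i + 1) = y * y ^ i by ring]
      rw [show b ^ n.succ * b ^ i * (y * y ^ i) = b ^ n.succ * y * (b ^ i * y ^ i) by ring, hy,
        show b ^ n * (b ^ i * y ^ i) = b ^ (n + i) * y ^ i by ring, ih]
  have hidem : b ^ n * y ^ n * (b ^ n * y ^ n) = b ^ n * y ^ n := by
    rw [show b ^ n * y ^ n * (b ^ n * y ^ n) = b ^ (n + n) * y ^ n * y ^ n by ring, hpow]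
  obtain ⟨c, hc⟩ := Ideal.Quotient.mk_surjective (b ^ n * y ^ n)
  obtain ⟨e, he, hec⟩ := HenselLib.exists_idempotent (maximalIdeal R) c (by
    rw [← Ideal.Quotient.eq_zero_iff_mem, map_sub, map_mul, hc, hidem, sub_self])
  have hemk : Ideal.Quotient.mk J e = b ^ n * y ^ n := by
    rw [← hc]; exact Ideal.Quotient.eq.mpr hec
  have hmem : ∀ m : Ideal C, m.IsMaximal → (e ∈ m ↔ b ^ n * y ^ n ∈ m.map (Ideal.Quotient.mk J)) := fun m hm => by
    rw [← hemk, Ideal.mem_quotient_iff_mem (hle m hm)]
  refine ⟨e, he, fun heQ => ?_, fun m hm hne => ?_⟩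
  · have h1 := (hmem Q hQ).mp heQ
    have h2 : b ^ n ∈ Q.map (Ideal.Quotient.mk J) := by
      have h3 : b ^ n = b ^ n * (b ^ n * y ^ n) := by
        rw [← mul_assoc, ← pow_add, hpow]
      rw [h3]
      exact Ideal.mul_mem_left _ _ h1
    exact hbQ (hQJ.isPrime.mem_of_pow_mem _ h2)
  · rw [hmem m hm]
    rcases Nat.eq_zero_or_pos n with hn0 | hn0
    · exfalso
      subst hn0
      simp only [pow_zero, Nat.succ_eq_add_one, zero_add, pow_one] at hy
      have hbu : IsUnit b := IsUnit.of_mul_eq_one y hy
      have hmJ : (m.map (Ideal.Quotient.mk J)).IsMaximal :=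
        Ideal.IsMaximal.map_of_surjective_of_ker_le Ideal.Quotient.mk_surjective (by rw [Ideal.mk_ker]; exact hle m hm)
      have hmS : m.map (Ideal.Quotient.mk J) ∈ S := by
        refine Finset.mem_erase.mpr ⟨fun h => hne ?_, (Set.Finite.mem_toFinset _).mpr hmJ⟩
        have := congrArg (Ideal.comap (Ideal.Quotient.mk J)) h
        rwa [Ideal.comap_map_mk (hle m hm), Ideal.comap_map_mk (hle Q hQ)] at this
      exact hmJ.ne_top (Ideal.eq_top_of_isUnit_mem _ ((Finset.inf_le (f := id) hmS) hbS) hbu)
    · have hmJ : (m.map (Ideal.Quotient.mk J)).IsMaximal :=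
        Ideal.IsMaximal.map_of_surjective_of_ker_le Ideal.Quotient.mk_surjective (by rw [Ideal.mk_ker]; exact hle m hm)
      have hmS : m.map (Ideal.Quotient.mk J) ∈ S := by
        refine Finset.mem_erase.mpr ⟨fun h => hne ?_, (Set.Finite.mem_toFinset _).mpr hmJ⟩
        have := congrArg (Ideal.comap (Ideal.Quotient.mk J)) h
        rwa [Ideal.comap_map_mk (hle m hm), Ideal.comap_map_mk (hle Q hQ)] at this
      exact Ideal.mul_mem_right _ _ (Ideal.pow_mem_of_mem _ ((Finset.inf_le (f := id) hmS) hbS) n hn0)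

variable [IsNoetherianRing A] [Module.Finite A B']

/-- Near a prime where a finite algebra is flat, some multiplication factors through a free module. -/
theorem exists_factorsFree (q : Ideal B') [q.IsPrime] [Module.Flat A (Localization.AtPrime q)] :
    ∃ s : B', s ∉ q ∧ FactorsFree A s := by
  classical
  haveI : Module.FinitePresentation A B' := Module.finitePresentation_of_finite A B'
  let p := q.comap (algebraMap A B')
  let Ap := Localization.AtPrime p
  let Ah := AdicCompletion (maximalIdeal Ap) Ap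
  haveI : IsScalarTower A Ap Ah := IsScalarTower.of_algebraMap_eq fun _ => rfl
  haveI : Module.Flat A Ah := Module.Flat.trans A Ap Ah
  let Bh := Ah ⊗[A] B'
  -- the point of the completed algebra over `q`
  have hbij := AdicCompletion.residueField_map_bijective (R := Ap)
  let r : Ah →+* p.ResidueField :=
    (RingEquiv.ofBijective (IsLocalRing.ResidueField.map (algebraMap Ap Ah)) hbij).symm.toRingHom.comp (residue Ah)
  have hr : ∀ a : A, r (algebraMap A Ah a) = algebraMap A p.ResidueField a := by
    intro a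
    show (RingEquiv.ofBijective _ hbij).symm (residue Ah (algebraMap A Ah a)) = _
    rw [RingEquiv.symm_apply_eq]
    rfl
  let g0 : Ah →ₐ[A] q.ResidueField :=
    { toRingHom := (Ideal.ResidueField.map p q (algebraMap A B') rfl).comp r
      commutes' := fun a => by
        show Ideal.ResidueField.map p q (algebraMap A B') rfl (r (algebraMap A Ah a)) = _
        rw [hr, Ideal.ResidueField.map_algebraMap]
        rfl }
  have hg0 : ∀ x ∈ maximalIdeal Ah, g0 x = 0 := fun x hx => by
    show Ideal.ResidueField.map p q (algebraMap A B') rfl (r x) = 0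
    rw [show r x = 0 by
      show (RingEquiv.ofBijective _ hbij).symm (residue Ah x) = 0
      rw [(residue_eq_zero_iff x).mpr hx, map_zero], map_zero]
  let θ : Bh →ₐ[A] q.ResidueField :=
    Algebra.TensorProduct.lift g0 (IsScalarTower.toAlgHom A B' q.ResidueField) fun _ _ => Commute.all _ _
  let Q : Ideal Bh := RingHom.ker θ.toRingHom
  haveI : Q.IsPrime := RingHom.ker_isPrime _
  haveI hQmax : Q.IsMaximal := by
    apply Ideal.isMaximal_of_isIntegral_of_isMaximal_comap (R := Ah) Q
    have h1 : maximalIdeal Ah ≤ Q.comap (algebraMap Ah Bh) := fun x hx => by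
      show θ (x ⊗ₜ[A] (1 : B')) = 0
      rw [Algebra.TensorProduct.lift_tmul, hg0 x hx, zero_mul]
    rw [(IsLocalRing.maximalIdeal.isMaximal Ah).eq_of_le (Ideal.IsPrime.ne_top inferInstance) h1 |>.symm]
    infer_instance
  have hQ1 : ∀ b : B', (1 : Ah) ⊗ₜ[A] b ∈ Q ↔ b ∈ q := fun b => by
    show θ _ = 0 ↔ _
    rw [Algebra.TensorProduct.lift_tmul, map_one, one_mul]
    exact Ideal.algebraMap_residueField_eq_zero
  -- the idempotent and its factor
  obtain ⟨e, he, heQ, hen⟩ := exists_idempotent_at (R := Ah) Q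
  have hunit : ∀ s : B', s ∉ q → IsUnit (Ideal.Quotient.mk (Ideal.span {1 - e}) ((1 : Ah) ⊗ₜ[A] s) : (Bh ⧸ Ideal.span {1 - e})) := by
    intro s hs
    have hu : IsUnit (e * ((1 : Ah) ⊗ₜ[A] s) + (1 - e)) := by
      rw [← not_not (a := IsUnit _)]
      intro hnu
      obtain ⟨n, hn, hmem⟩ := exists_max_ideal_of_mem_nonunits (mem_nonunits_iff.mpr hnu)
      by_cases hnQ : n = Q
      · subst hnQ
        have h1 : e * (1 - e) = 0 := by rw [mul_sub, mul_one, he, sub_self]
        have h2 : 1 - e ∈ Q := (Ideal.IsPrime.mem_or_mem inferInstance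
          (show e * (1 - e) ∈ Q by rw [h1]; exact Q.zero_mem)).resolve_left heQ
        have h3 : e * ((1 : Ah) ⊗ₜ[A] s) ∈ Q := by
          have := Q.sub_mem hmem h2
          rwa [add_sub_cancel_right] at this
        exact hs ((hQ1 s).mp ((Ideal.IsPrime.mem_or_mem inferInstance h3).resolve_left heQ))
      · have h1 := hen n hn hnQ
        refine hn.ne_top ((Ideal.eq_top_iff_one n).mpr ?_)
        have h2 := n.sub_mem hmem (n.mul_mem_right ((1 : Ah) ⊗ₜ[A] s) h1)
        rw [add_sub_cancel_left] at h2
        have := n.add_mem h2 h1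
        rwa [sub_add_cancel] at this
    have h := hu.map (Ideal.Quotient.mk (Ideal.span {1 - e}))
    have h0 : Ideal.Quotient.mk (Ideal.span {1 - e}) (1 - e) = 0 :=
      Ideal.Quotient.eq_zero_iff_mem.mpr (Ideal.mem_span_singleton_self _)
    have he1 : Ideal.Quotient.mk (Ideal.span {1 - e}) e = 1 := by
      rw [map_sub, map_one, sub_eq_zero] at h0; exact h0.symm
    rw [map_add, map_mul, he1, h0, add_zero] at h
    exact (congrArg IsUnit (one_mul _)).mp h
  let κ : B' →ₐ[A] (Bh ⧸ Ideal.span {1 - e}) := (Ideal.Quotient.mkₐ A _).comp Algebra.TensorProduct.includeRight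
  let κq : Localization.AtPrime q →ₐ[A] (Bh ⧸ Ideal.span {1 - e}) := IsLocalization.liftAlgHom (A := A) (R := B') (M := q.primeCompl) (S := Localization.AtPrime q) (P := (Bh ⧸ Ideal.span {1 - e})) (f := κ) fun s => hunit s.1 s.2
  let T := Ah ⊗[A] Localization.AtPrime q
  let π : T →ₐ[Ah] (Bh ⧸ Ideal.span {1 - e}) :=
    Algebra.TensorProduct.lift (Algebra.ofId Ah (Bh ⧸ Ideal.span {1 - e})) κq fun x y => mul_comm (G := Bh ⧸ Ideal.span {1 - e}) _ _
  let j : Bh →ₐ[Ah] T := Algebra.TensorProduct.map (AlgHom.id Ah Ah) (IsScalarTower.toAlgHom A B' (Localization.AtPrime q))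
  have hπj : ∀ x, π (j x) = Ideal.Quotient.mk (Ideal.span {1 - e}) x := by
    intro x
    have hcomp : π.comp j = Ideal.Quotient.mkₐ Ah (Ideal.span {1 - e}) := by
      refine Algebra.TensorProduct.ext (AlgHom.ext fun a => ?_) (AlgHom.ext fun b => ?_)
      · exact AlgHom.commutes (π.comp j) a |>.trans (AlgHom.commutes (Ideal.Quotient.mkₐ Ah _) a).symm
      · show π ((1 : Ah) ⊗ₜ[A] algebraMap B' (Localization.AtPrime q) b) = _
        rw [Algebra.TensorProduct.lift_tmul, map_one]
        exact (one_mul (M := Bh ⧸ Ideal.span {1 - e}) _).trans (IsLocalization.lift_eq _ b)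
    exact AlgHom.congr_fun hcomp x
  let me : (Bh ⧸ Ideal.span {1 - e}) →ₗ[Ah] Bh := Submodule.liftQ ((Ideal.span {1 - e}).restrictScalars Ah) (LinearMap.mulLeft Ah e) (fun x hx => by
    obtain ⟨c, rfl⟩ := Ideal.mem_span_singleton'.mp hx
    show e * (c * (1 - e)) = 0
    rw [mul_left_comm, mul_sub, mul_one, he, sub_self, mul_zero])
  have hme : ∀ x, me (Ideal.Quotient.mk (Ideal.span {1 - e}) x) = e * x := fun x => rfl
  haveI : Module.Flat Ah (Bh ⧸ Ideal.span {1 - e}) := Module.Flat.of_retract (f := inferInstanceAs (Module.Flat Ah T))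
    (j.toLinearMap.comp me) π.toLinearMap (LinearMap.ext fun c => by
      obtain ⟨x, rfl⟩ := Ideal.Quotient.mk_surjective c
      show π (j (me _)) = _
      rw [hme, hπj, map_mul]
      have h0 : Ideal.Quotient.mk (Ideal.span {1 - e}) (1 - e) = 0 :=
        Ideal.Quotient.eq_zero_iff_mem.mpr (Ideal.mem_span_singleton_self _)
      rw [map_sub, map_one, sub_eq_zero] at h0
      rw [← h0]
      exact one_mul (M := Bh ⧸ Ideal.span {1 - e}) _)
  haveI : IsNoetherianRing Ah := Matlis6.isNoetherianRing_adicCompletion _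
  haveI : Module.Finite Ah (Bh ⧸ Ideal.span {1 - e}) := Module.Finite.of_surjective (Ideal.Quotient.mkₐ Ah (Ideal.span {1 - e})).toLinearMap
    Ideal.Quotient.mk_surjective
  haveI : Module.FinitePresentation Ah (Bh ⧸ Ideal.span {1 - e}) := Module.finitePresentation_of_finite Ah (Bh ⧸ Ideal.span {1 - e})
  haveI : Module.Projective Ah (Bh ⧸ Ideal.span {1 - e}) := Module.Flat.projective_of_finitePresentation
  obtain ⟨m, g1, f1, -, -, hfg⟩ := Module.Finite.exists_comp_eq_id_of_projective Ah (Bh ⧸ Ideal.span {1 - e})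
  let F : Bh →ₗ[Ah] (Fin m → Ah) := f1.comp (Ideal.Quotient.mkₐ Ah (Ideal.span {1 - e})).toLinearMap
  let G : (Fin m → Ah) →ₗ[Ah] Bh := me.comp g1
  have hFG : ∀ x, G (F x) = e * x := fun x => by
    show me (g1 (f1 _)) = _
    rw [show g1 (f1 ((Ideal.Quotient.mkₐ Ah (Ideal.span {1 - e})).toLinearMap x)) = Ideal.Quotient.mk _ x from LinearMap.congr_fun hfg _]
    exact hme x
  -- descent
  let T0 : Submodule A (Module.End A B') := LinearMap.range (dualTensorHom A B' B')
  let φ : B' →ₗ[A] Module.End A B' ⧸ T0 := T0.mkQ.comp (LinearMap.mul A B')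
  have hbe := Module.FinitePresentation.isBaseChange_map A B' B' Ah
  let β := hbe.equiv
  let R0 : Submodule Ah (Bh →ₗ[Ah] Bh) :=
    LinearMap.range (β.toLinearMap.comp (T0.subtype.baseChange Ah))
  have hrk : ∀ (χ : Module.Dual Ah Bh) (c : Bh), χ.smulRight c ∈ R0 := by
    have hd := dual_isBaseChange_of_flat (TensorProduct.isBaseChange A B' Ah)
    intro χ
    induction χ using hd.inductionOn with
    | zero => intro c; simp
    | tmul χ =>
      intro c
      induction c using TensorProduct.induction_on with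
      | zero => simp
      | tmul a b =>
        refine ⟨a ⊗ₜ ⟨dualTensorHom A B' B' (χ ⊗ₜ b), ⟨_, rfl⟩⟩, ?_⟩
        refine (TensorProduct.isBaseChange A B' Ah).algHom_ext _ _ fun x => ?_
        rw [LinearMap.smulRight_apply, IsBaseChange.toDual_comp_apply]
        simp [β, IsBaseChange.equiv_tmul, TensorProduct.smul_tmul', Algebra.smul_def, mul_comm]
        rw [mul_comm, ← Algebra.smul_def, TensorProduct.tmul_smul]
      | add c d hc hd' =>
        rw [show LinearMap.smulRight (TensorProduct.isBaseChange A B' Ah |>.toDual χ) (c + d) =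
          LinearMap.smulRight (TensorProduct.isBaseChange A B' Ah |>.toDual χ) c +
          LinearMap.smulRight (TensorProduct.isBaseChange A B' Ah |>.toDual χ) d from
          LinearMap.ext fun x => smul_add _ c d]
        exact add_mem hc hd'
    | smul a χ hχ =>
      intro c
      rw [show (a • χ).smulRight c = a • χ.smulRight c from LinearMap.ext fun x => by simp [mul_smul]]
      exact R0.smul_mem _ (hχ c)
    | add χ ψ hχ hψ =>
      intro c
      rw [show (χ + ψ).smulRight c = χ.smulRight c + ψ.smulRight c from LinearMap.ext fun x => by simp [add_smul]]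
      exact add_mem (hχ c) (hψ c)
  have hlmul : ∀ z : Bh, β ((LinearMap.mul A B').baseChange Ah z) = LinearMap.mulLeft Ah z := by
    intro z
    induction z using TensorProduct.induction_on with
    | zero => simp [show LinearMap.mulLeft Ah (0 : Bh) = 0 from LinearMap.ext fun x => zero_mul x]
    | tmul a b =>
      refine TensorProduct.AlgebraTensorModule.curry_injective (LinearMap.ext fun a' => LinearMap.ext fun x => ?_)
      simp [β, IsBaseChange.equiv_tmul, TensorProduct.smul_tmul']
    | add x y hx hy => rw [map_add, map_add, hx, hy]; exact LinearMap.ext fun w => (add_mul x y w).symm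
  have heR : LinearMap.mulLeft Ah e ∈ R0 := by
    have : LinearMap.mulLeft Ah e =
        ∑ i, ((LinearMap.proj i).comp F).smulRight (G (Pi.single i 1)) := by
      refine LinearMap.ext fun x => ?_
      rw [LinearMap.mulLeft_apply, ← hFG, LinearMap.sum_apply]
      conv_lhs => rw [pi_eq_sum_univ' (F x), map_sum]
      exact Finset.sum_congr rfl fun i _ => by rw [map_smul]; rfl
    rw [this]
    exact Submodule.sum_mem _ fun i _ => hrk _ _
  obtain ⟨t, ht⟩ := heR
  rw [← hlmul] at ht
  have ht' : T0.subtype.baseChange Ah t = (LinearMap.mul A B').baseChange Ah e := β.injective ht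
  have h0 : LinearMap.lTensor Ah φ e = 0 := by
    show (T0.mkQ.comp (LinearMap.mul A B')).lTensor Ah e = 0
    rw [LinearMap.lTensor_comp, LinearMap.comp_apply]
    have : (LinearMap.mul A B').lTensor Ah e = T0.subtype.lTensor Ah t := by
      rw [← LinearMap.baseChange_eq_ltensor, ← LinearMap.baseChange_eq_ltensor]; exact ht'.symm
    rw [this, ← LinearMap.comp_apply, ← LinearMap.lTensor_comp,
      show T0.mkQ ∘ₗ T0.subtype = 0 from LinearMap.ext fun x => (Submodule.Quotient.mk_eq_zero _).mpr x.2]
    simp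
  obtain ⟨w, hw⟩ := (Module.Flat.lTensor_exact (M := Ah) (LinearMap.exact_subtype_ker_map φ) e).mp h0
  by_contra hcon
  push Not at hcon
  apply heQ
  rw [← hw]
  clear hw
  induction w using TensorProduct.induction_on with
  | zero => exact Q.zero_mem
  | tmul a x =>
    have hx : FactorsFree A x.1 :=
      factorsFree_of_mem_range x.1 ((Submodule.Quotient.mk_eq_zero _).mp (LinearMap.mem_ker.mp x.2))
    have hxq : x.1 ∈ q := by_contra fun h => hcon _ h hx
    show (a ⊗ₜ[A] x.1 : Bh) ∈ Q
    rw [← mul_one a, ← one_mul x.1, ← Algebra.TensorProduct.tmul_mul_tmul]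
    exact Q.mul_mem_left _ ((hQ1 _).mpr hxq)
  | add x y hx hy => rw [map_add]; exact Q.add_mem hx hy

end Groth.Agent.CohDer1.QFDiff
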