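import Groth.Agent.CohDer1.QFDiff.Split
import Groth.Agent.CohDer1.QFDiff.Ass

/-!
# Base change and flatness of the dualizing module near a flat point
-/

set_option autoImplicit false

universe u

open TensorProduct AlgebraicGeometry CategoryTheory

namespace Groth.Agent.CohDer1.QFDiff

section Local

variable {B' B : Type u} [CommRing B'] [CommRing B] [Algebra B' B]
  [IsOpenImmersion (Spec.map (CommRingCat.ofHom (algebraMap B' B)))]

theorem bijective_localRingHom (q : Ideal B) [q.IsPrime] :
    Function.Bijective (Localization.localRingHom (q.comap (algebraMap B' B)) q (algebraMap B' B) rfl) := by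
  let φ := CommRingCat.ofHom (algebraMap B' B)
  have hqp : q.IsPrime := inferInstance
  have h1 : IsIso ((Spec.map φ).stalkMap (⟨q, hqp⟩ : PrimeSpectrum B)) := inferInstance
  have h2 : IsIso (CommRingCat.ofHom (Localization.localRingHom (q.comap (algebraMap B' B)) q (algebraMap B' B) rfl)) :=
    ((MorphismProperty.isomorphisms CommRingCat).arrow_mk_iso_iff (Scheme.arrowStalkMapSpecIso φ (⟨q, hqp⟩ : PrimeSpectrum B))).mp h1
  exact ConcreteCategory.bijective_of_isIso (CommRingCat.ofHom (Localization.localRingHom (q.comap (algebraMap B' B)) q (algebraMap B' B) rfl))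

/-- Near a prime, elements of `B` are fractions of elements of `B'`. -/
theorem exists_frac (q : Ideal B) [q.IsPrime] (b : B) :
    ∃ (t s : B') (u : B), s ∉ q.comap (algebraMap B' B) ∧ u ∉ q ∧
      u * algebraMap B' B s * b = u * algebraMap B' B t := by
  have hbij := bijective_localRingHom (B' := B') q
  obtain ⟨x, hx⟩ := hbij.2 (algebraMap B (Localization.AtPrime q) b)
  obtain ⟨⟨t, s⟩, hts⟩ := IsLocalization.surj (q.comap (algebraMap B' B)).primeCompl x
  have h := congrArg (Localization.localRingHom (q.comap (algebraMap B' B)) q (algebraMap B' B) rfl) hts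
  rw [map_mul, hx, Localization.localRingHom_to_map, Localization.localRingHom_to_map, ← map_mul] at h
  obtain ⟨u, hu⟩ := (IsLocalization.eq_iff_exists q.primeCompl (Localization.AtPrime q)).mp h
  exact ⟨t, s, u, s.2, u.2, by rw [mul_assoc, mul_comm (algebraMap B' B _) b]; exact hu⟩

variable {M : Type u} [AddCommGroup M] [Module B' M]

theorem exists_rep (q : Ideal B) [q.IsPrime] (z : B ⊗[B'] M) :
    ∃ (s : B') (u : B) (m : M), s ∉ q.comap (algebraMap B' B) ∧ u ∉ q ∧
      (u * algebraMap B' B s) • z = u • ((1 : B) ⊗ₜ[B'] m) := by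
  induction z using TensorProduct.induction_on with
  | zero => exact ⟨1, 1, 0, fun h => (Ideal.IsPrime.comap (algebraMap B' B) (K := q)).one_notMem h,
      fun h => (inferInstance : q.IsPrime).one_notMem h, by simp⟩
  | tmul b m =>
    obtain ⟨t, s, u, hs, hu, h⟩ := exists_frac (B' := B') q b
    refine ⟨s, u, t • m, hs, hu, ?_⟩
    rw [TensorProduct.smul_tmul', TensorProduct.tmul_smul, TensorProduct.smul_tmul', TensorProduct.smul_tmul',
      smul_eq_mul, smul_eq_mul]
    congr 1
    rw [h, Algebra.smul_def, mul_one, mul_comm]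
  | add x y hx hy =>
    obtain ⟨s, u, m, hs, hu, h⟩ := hx
    obtain ⟨s', u', m', hs', hu', h'⟩ := hy
    refine ⟨s * s', u * u', s' • m + s • m', fun hh => ((Ideal.IsPrime.comap (algebraMap B' B) (K := q)).mem_or_mem hh).elim hs hs',
      fun hh => ((inferInstance : q.IsPrime).mem_or_mem hh).elim hu hu', ?_⟩
    rw [TensorProduct.tmul_add, TensorProduct.tmul_smul, TensorProduct.tmul_smul, smul_add, smul_add,
      ← algebraMap_smul B s', ← algebraMap_smul B s ((1 : B) ⊗ₜ[B'] m'), map_mul,
      show u * u' * (algebraMap B' B s * algebraMap B' B s') =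
        (u' * algebraMap B' B s') * (u * algebraMap B' B s) by ring]
    congr 1
    · rw [mul_smul, h]
      simp only [smul_smul]
      congr 1
      ring
    · rw [mul_comm (u' * _), mul_smul, h']
      simp only [smul_smul]
      congr 1
      ring

theorem exists_rep_family (q : Ideal B) [q.IsPrime] {ι : Type*} [Fintype ι] (z : ι → B ⊗[B'] M) :
    ∃ (s : B') (u : B) (m : ι → M), s ∉ q.comap (algebraMap B' B) ∧ u ∉ q ∧
      ∀ i, (u * algebraMap B' B s) • z i = u • ((1 : B) ⊗ₜ[B'] m i) := by
  classical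
  choose s u m hs hu h using fun i => exists_rep (B' := B') q (z i)
  haveI : (q.comap (algebraMap B' B)).IsPrime := Ideal.IsPrime.comap _
  refine ⟨∏ i, s i, ∏ i, u i, fun i => (∏ j ∈ Finset.univ.erase i, s j) • m i,
    fun hh => ?_, fun hh => ?_, fun i => ?_⟩
  · obtain ⟨i, -, hi⟩ := Ideal.IsPrime.prod_mem_iff.mp hh
    exact hs i hi
  · obtain ⟨i, -, hi⟩ := Ideal.IsPrime.prod_mem_iff.mp hh
    exact hu i hi
  · rw [← Finset.mul_prod_erase _ s (Finset.mem_univ i), ← Finset.mul_prod_erase _ u (Finset.mem_univ i),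
      TensorProduct.tmul_smul, ← algebraMap_smul B (∏ j ∈ Finset.univ.erase i, s j), map_mul,
      show u i * (∏ j ∈ Finset.univ.erase i, u j) * (algebraMap B' B (s i) * algebraMap B' B (∏ j ∈ Finset.univ.erase i, s j)) =
        ((∏ j ∈ Finset.univ.erase i, u j) * algebraMap B' B (∏ j ∈ Finset.univ.erase i, s j)) * (u i * algebraMap B' B (s i)) by ring,
      mul_smul, h i, smul_smul, smul_smul]
    congr 1
    ring

/-- An element of `M` killed in `B ⊗ M` near `q` is killed near the image of `q`. -/
theorem exists_smul_eq_zero (q : Ideal B) [q.IsPrime] (m : M) {u : B} (hu : u ∉ q)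
    (h : u • ((1 : B) ⊗ₜ[B'] m) = 0) : ∃ s : B', s ∉ q.comap (algebraMap B' B) ∧ s • m = 0 := by
  haveI : Module.Flat B' B := RingHom.flat_algebraMap_iff.mp ((HasRingHomProperty.Spec_iff
    (P := @AlgebraicGeometry.Flat)).mp (inferInstance : Flat (Spec.map (CommRingCat.ofHom (algebraMap B' B)))))
  by_contra hcon
  push Not at hcon
  have hle : (⊥ : Submodule B' M).colon {m} ≤ q.comap (algebraMap B' B) := fun x hx => by
    by_contra hxq
    exact hcon x hxq (Submodule.mem_colon_singleton.mp hx)
  have h5 : u ∈ (⊥ : Submodule B (B ⊗[B'] M)).colon {(1 : B) ⊗ₜ[B'] m} := Submodule.mem_colon_singleton.mpr h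
  rw [colon_one_tmul] at h5
  exact hu (Ideal.map_le_iff_le_comap.mpr hle h5)

variable {A : Type u} [CommRing A] [Algebra A B'] [Algebra A B] [IsScalarTower A B' B]

theorem flat_localization (q : Ideal B) [q.IsPrime] [Module.Flat A B] :
    Module.Flat A (Localization.AtPrime (q.comap (algebraMap B' B))) := by
  let f : Localization.AtPrime (q.comap (algebraMap B' B)) →ₐ[A] Localization.AtPrime q :=
    { toRingHom := Localization.localRingHom (q.comap (algebraMap B' B)) q (algebraMap B' B) rfl
      commutes' := fun a => by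
        rw [IsScalarTower.algebraMap_apply A B' (Localization.AtPrime (q.comap (algebraMap B' B)))]
        exact (Localization.localRingHom_to_map _ _ _ rfl _).trans (by
          rw [← IsScalarTower.algebraMap_apply A B' B, ← IsScalarTower.algebraMap_apply A B (Localization.AtPrime q)]) }
  exact Module.Flat.of_linearEquiv (AlgEquiv.ofBijective f (bijective_localRingHom (B' := B') q)).toLinearEquiv

/-- Relations in the dualizing module are trivial near a point where a multiplication splits. -/
theorem exists_trivial_relation (q : Ideal B) [q.IsPrime] {s₀ : B'} (hs₀ : s₀ ∉ q.comap (algebraMap B' B))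
    (hf : FactorsFree A s₀) {ι : Type*} [Fintype ι] (a : ι → A) (z : ι → QFDual.omega A B' B)
    (hz : ∑ i, a i • z i = 0) :
    ∃ v ∉ q, ∃ (κ : Type u) (_ : Fintype κ) (c : ι → κ → A) (y : κ → QFDual.omega A B' B),
      (∀ i, v • z i = ∑ k, c i k • y k) ∧ ∀ k, ∑ i, a i * c i k = 0 := by
  classical
  obtain ⟨κ, _, f, g, hgf⟩ := hf
  haveI : (q.comap (algebraMap B' B)).IsPrime := Ideal.IsPrime.comap _
  obtain ⟨s, u, m, hs, hu, hm⟩ := exists_rep_family (B' := B') q z
  have hsum : u • ((1 : B) ⊗ₜ[B'] ∑ i, algebraMap A B' (a i) • m i) = 0 := by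
    rw [TensorProduct.tmul_sum, Finset.smul_sum]
    calc ∑ i, u • ((1 : B) ⊗ₜ[B'] (algebraMap A B' (a i) • m i))
        = ∑ i, a i • ((u * algebraMap B' B s) • z i) := Finset.sum_congr rfl fun i _ => by
          rw [hm, TensorProduct.tmul_smul, algebraMap_smul, smul_comm]
      _ = (u * algebraMap B' B s) • ∑ i, a i • z i := by
          rw [Finset.smul_sum]
          exact Finset.sum_congr rfl fun i _ => smul_comm _ _ _
      _ = 0 := by rw [hz, smul_zero]
  obtain ⟨s', hs', hs'0⟩ := exists_smul_eq_zero q _ hu hsum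
  refine ⟨u * algebraMap B' B (s₀ * s' * s), fun hh => ?_, κ, inferInstance,
    fun i k => (s' • m i).toLinearMap (g (Pi.single k 1)),
    fun k => u • ((1 : B) ⊗ₜ[B'] Disc.Omega.mk ((LinearMap.proj k).comp f)), fun i => ?_, fun k => ?_⟩
  · refine ((inferInstance : q.IsPrime).mem_or_mem hh).elim hu fun h1 => ?_
    exact ((Ideal.IsPrime.mem_or_mem inferInstance (show s₀ * s' * s ∈ q.comap (algebraMap B' B) from h1)).elim
      (fun h2 => (Ideal.IsPrime.mem_or_mem inferInstance h2).elim hs₀ hs') hs)
  · have h1 : (s₀ * s') • m i = ∑ k, algebraMap A B' ((s' • m i).toLinearMap (g (Pi.single k 1))) •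
        Disc.Omega.mk ((LinearMap.proj k).comp f) := by
      let ev : Disc.Omega A B' →+ (B' →ₗ[A] A) := { toFun := fun φ => φ.toLinearMap, map_zero' := rfl, map_add' := fun _ _ => rfl }
      refine Disc.Omega.ext (LinearMap.ext fun x => ?_)
      show _ = (ev _) x
      rw [map_sum, LinearMap.sum_apply, Disc.Omega.smul_toLinearMap_apply, mul_comm s₀ s', mul_assoc,
        ← Disc.Omega.smul_toLinearMap_apply, ← hgf, pi_eq_sum_univ' (f x), map_sum, map_sum]
      refine Finset.sum_congr rfl fun k _ => ?_
      show (s' • m i).toLinearMap (g (f x k • _)) = f (algebraMap A B' _ * x) k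
      rw [map_smul, map_smul, ← Algebra.smul_def, map_smul, Pi.smul_apply, smul_eq_mul, smul_eq_mul, mul_comm]
    rw [map_mul, show u * (algebraMap B' B (s₀ * s') * algebraMap B' B s) = algebraMap B' B (s₀ * s') * (u * algebraMap B' B s) by ring,
      mul_smul, hm, smul_comm, algebraMap_smul, ← TensorProduct.tmul_smul, h1, TensorProduct.tmul_sum, Finset.smul_sum]
    refine Finset.sum_congr rfl fun k _ => ?_
    rw [TensorProduct.tmul_smul, algebraMap_smul, smul_comm]
  · let ev : Disc.Omega A B' →+ A :=
      { toFun := fun φ => φ.toLinearMap (g (Pi.single k 1)), map_zero' := rfl, map_add' := fun _ _ => rfl }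
    have h2 := congrArg ev hs'0
    rw [Finset.smul_sum, map_sum, map_zero] at h2
    rw [← h2]
    refine Finset.sum_congr rfl fun i _ => ?_
    rw [smul_comm]
    show a i * _ = (s' • m i).toLinearMap (algebraMap A B' (a i) * g (Pi.single k 1))
    rw [← Algebra.smul_def, map_smul, smul_eq_mul]

end Local

section BaseChange

variable {A B' A₁ B₁' C : Type u} [CommRing A] [CommRing B'] [CommRing A₁] [CommRing B₁'] [CommRing C]
  [Algebra A B'] [Algebra A A₁] [Algebra B' B₁'] [Algebra A₁ B₁'] [Algebra A B₁'] [IsScalarTower A A₁ B₁']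
  [IsScalarTower A B' B₁'] [Algebra B₁' C] [Algebra B' C] [IsScalarTower B' B₁' C]

/-- An inverse of the base change map up to the square of a multiplication which splits. -/
theorem exists_inverse_upto (h : Algebra.IsPushout A A₁ B' B₁') {s : B'} (hs : FactorsFree A s) :
    ∃ D : QFDual.omega A₁ B₁' C →ₗ[C] QFDual.omega A B' C,
      (∀ z, D (QFDual.omegaBC h z) = algebraMap B' C (s * s) • z) ∧
      ∀ y, QFDual.omegaBC h (D y) = algebraMap B' C (s * s) • y := by
  classical
  letI : Module B' (Disc.Omega A₁ B₁') := Module.compHom _ (algebraMap B' B₁')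
  haveI : IsScalarTower B' B₁' (Disc.Omega A₁ B₁') := IsScalarTower.of_algebraMap_smul fun _ _ => rfl
  obtain ⟨κ, _, f, g, hgf⟩ := hs
  let c0 : B₁' ⊗[B'] Disc.Omega A B' →ₗ[B₁'] Disc.Omega A₁ B₁' := LinearMap.liftBaseChange B₁' (bcLin h)
  have hc0 : ∀ r φ, c0 (r ⊗ₜ φ) = r • QFDual.bcFin h φ := fun r φ => rfl
  let ev : κ → Disc.Omega A₁ B₁' → B₁' := fun k ψ => algebraMap A₁ B₁' (ψ.toLinearMap (algebraMap B' B₁' (g (Pi.single k 1))))
  let H : Disc.Omega A₁ B₁' →+ B₁' ⊗[B'] Disc.Omega A B' :=
    AddMonoidHom.mk' (fun ψ => ∑ k, ev k ψ ⊗ₜ[B'] Disc.Omega.mk ((LinearMap.proj k).comp f)) fun ψ χ => by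
      rw [← Finset.sum_add_distrib]
      exact Finset.sum_congr rfl fun k _ => by simp [ev, map_add, TensorProduct.add_tmul]
  let eval : B₁' → Disc.Omega A₁ B₁' →+ A₁ := fun w =>
    { toFun := fun ψ => ψ.toLinearMap w, map_zero' := rfl, map_add' := fun _ _ => rfl }
  have hcH : ∀ ψ, c0 (H ψ) = algebraMap B' B₁' s • ψ := by
    intro ψ
    refine Disc.Omega.ext (h.out.algHom_ext _ _ fun x => ?_)
    show eval (algebraMap B' B₁' x) (c0 (H ψ)) = ψ.toLinearMap (algebraMap B' B₁' s * algebraMap B' B₁' x)
    rw [← map_mul, ← hgf, pi_eq_sum_univ' (f x), map_sum, map_sum (algebraMap B' B₁'), map_sum ψ.toLinearMap]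
    show eval _ (c0 (∑ k, _)) = _
    rw [map_sum, map_sum]
    refine Finset.sum_congr rfl fun k _ => ?_
    show (c0 (ev k ψ ⊗ₜ[B'] _)).toLinearMap (algebraMap B' B₁' x) = _
    rw [hc0, Disc.Omega.smul_toLinearMap_apply, map_smul g, Algebra.smul_def (f x k), map_mul (algebraMap B' B₁'),
      ← IsScalarTower.algebraMap_apply A B' B₁', IsScalarTower.algebraMap_apply A A₁ B₁', ← Algebra.smul_def]
    rw [← Algebra.smul_def, map_smul, map_smul, QFDual.bcFin_apply_algebraMap, smul_eq_mul, smul_eq_mul, mul_comm]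
    rfl
  have hHc : ∀ z, H (c0 z) = algebraMap B' B₁' s • z := by
    intro z
    induction z using TensorProduct.induction_on with
    | zero => simp
    | tmul r φ =>
      rw [hc0]
      induction r using h.out.inductionOn with
      | zero => simp
      | tmul b =>
        have h1 : ∑ k, algebraMap A B' (φ.toLinearMap (b * g (Pi.single k 1))) •
            Disc.Omega.mk ((LinearMap.proj k).comp f) = (s * b) • φ := by
          let e' : Disc.Omega A B' →+ (B' →ₗ[A] A) := { toFun := fun φ => φ.toLinearMap, map_zero' := rfl, map_add' := fun _ _ => rfl }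
          refine Disc.Omega.ext (LinearMap.ext fun x => ?_)
          show (e' _) x = φ.toLinearMap (s * b * x)
          rw [map_sum, LinearMap.sum_apply, mul_comm s b, mul_assoc, ← hgf, pi_eq_sum_univ' (f x), map_sum,
            Finset.mul_sum, map_sum]
          refine Finset.sum_congr rfl fun k _ => ?_
          show f (algebraMap A B' _ * x) k = _
          rw [← Algebra.smul_def, map_smul, Pi.smul_apply, map_smul, mul_smul_comm, map_smul, smul_eq_mul, smul_eq_mul, mul_comm]
        show H (algebraMap B' B₁' b • QFDual.bcFin h φ) = algebraMap B' B₁' s • (algebraMap B' B₁' b ⊗ₜ[B'] φ)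
        rw [TensorProduct.smul_tmul', smul_eq_mul, ← map_mul, Algebra.algebraMap_eq_smul_one (s * b),
          TensorProduct.smul_tmul, ← h1, TensorProduct.tmul_sum]
        refine Finset.sum_congr rfl fun k _ => ?_
        show algebraMap A₁ B₁' ((QFDual.bcFin h φ).toLinearMap (algebraMap B' B₁' b * algebraMap B' B₁' _)) ⊗ₜ[B'] _ = _
        rw [← map_mul, QFDual.bcFin_apply_algebraMap, ← IsScalarTower.algebraMap_apply, IsScalarTower.algebraMap_apply A B' B₁',
          Algebra.algebraMap_eq_smul_one (R := B'), TensorProduct.smul_tmul]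
      | smul a r hr =>
        show H ((a • r) • QFDual.bcFin h φ) = _
        have h2 : ∀ ψ, H (algebraMap A₁ B₁' a • ψ) = algebraMap A₁ B₁' a • H ψ := fun ψ => by
          show ∑ k, _ = algebraMap A₁ B₁' a • ∑ k, _
          rw [Finset.smul_sum]
          refine Finset.sum_congr rfl fun k _ => ?_
          rw [TensorProduct.smul_tmul', smul_eq_mul]
          congr 1
          show algebraMap A₁ B₁' (ψ.toLinearMap (algebraMap A₁ B₁' a * _)) = _
          rw [← Algebra.smul_def, map_smul, smul_eq_mul, map_mul]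
        rw [Algebra.smul_def a r, mul_smul, h2, hr, smul_comm, TensorProduct.smul_tmul', smul_eq_mul]
      | add r r' hr hr' => rw [add_smul, map_add, hr, hr', TensorProduct.add_tmul, smul_add]
    | add x y hx hy => rw [map_add, map_add, hx, hy, smul_add]
  let H' : Disc.Omega A₁ B₁' →ₗ[B₁'] B₁' ⊗[B'] Disc.Omega A B' :=
    { toFun := fun ψ => algebraMap B' B₁' s • H ψ
      map_add' := fun ψ χ => by rw [map_add, smul_add]
      map_smul' := fun r ψ => by
        rw [RingHom.id_apply, smul_comm r]
        have h3 : c0 (H (r • ψ) - r • H ψ) = 0 := by rw [map_sub, hcH (r • ψ), map_smul c0, hcH ψ, smul_comm, sub_self]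
        have h4 := hHc (H (r • ψ) - r • H ψ)
        rw [h3, map_zero, smul_sub] at h4
        exact sub_eq_zero.mp h4.symm }
  let D : QFDual.omega A₁ B₁' C →ₗ[C] QFDual.omega A B' C :=
    (TensorProduct.AlgebraTensorModule.cancelBaseChange B' B₁' C C (Disc.Omega A B')).toLinearMap ∘ₗ H'.baseChange C
  have hcancel : ∀ (c : C) (w : B₁' ⊗[B'] Disc.Omega A B'),
      QFDual.omegaBC h (TensorProduct.AlgebraTensorModule.cancelBaseChange B' B₁' C C (Disc.Omega A B') (c ⊗ₜ w)) = c ⊗ₜ c0 w := by
    intro c w
    induction w using TensorProduct.induction_on with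
    | zero => simp
    | tmul r φ =>
      rw [TensorProduct.AlgebraTensorModule.cancelBaseChange_tmul, QFDual.omegaBC_tmul, hc0, TensorProduct.smul_tmul]
    | add x y hx hy => rw [TensorProduct.tmul_add, map_add, map_add, hx, hy, map_add, TensorProduct.tmul_add]
  refine ⟨D, fun z => ?_, fun y => ?_⟩
  · induction z using TensorProduct.induction_on with
    | zero => simp
    | tmul c φ =>
      show TensorProduct.AlgebraTensorModule.cancelBaseChange B' B₁' C C (Disc.Omega A B')
        (c ⊗ₜ[B₁'] (algebraMap B' B₁' s • H (QFDual.bcFin h φ))) = _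
      rw [show QFDual.bcFin h φ = c0 ((1 : B₁') ⊗ₜ φ) by rw [hc0, one_smul], hHc, smul_smul, ← map_mul,
        TensorProduct.smul_tmul', TensorProduct.AlgebraTensorModule.cancelBaseChange_tmul, TensorProduct.smul_tmul']
      congr 1
      rw [smul_eq_mul, smul_eq_mul, mul_one, Algebra.smul_def, ← IsScalarTower.algebraMap_apply]
    | add x y hx hy => rw [map_add, map_add, hx, hy, smul_add]
  · induction y using TensorProduct.induction_on with
    | zero => simp
    | tmul c ψ =>
      show QFDual.omegaBC h (TensorProduct.AlgebraTensorModule.cancelBaseChange B' B₁' C C (Disc.Omega A B')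
        (c ⊗ₜ[B₁'] (algebraMap B' B₁' s • H ψ))) = _
      rw [hcancel, map_smul, hcH, smul_smul, ← map_mul, TensorProduct.tmul_smul,
        IsScalarTower.algebraMap_apply B' B₁' C (s * s)]
      exact (algebraMap_smul C _ _).symm
    | add x y hx hy => rw [map_add, map_add, hx, hy, smul_add]

theorem omegaBC_bijective_of_split (h : Algebra.IsPushout A A₁ B' B₁')
    (hs : ∀ Q : Ideal C, Q.IsPrime → ∃ s : B', algebraMap B' C s ∉ Q ∧ FactorsFree A s) :
    Function.Bijective (QFDual.omegaBC (B₁ := C) h) := by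
  have key : ∀ I : Ideal C, (∀ (Q : Ideal C) (s : B'), Q.IsPrime → algebraMap B' C s ∉ Q → FactorsFree A s →
      algebraMap B' C (s * s) ∈ I) → I = ⊤ := by
    intro I hI
    by_contra hne
    obtain ⟨Q, hQ, hIQ⟩ := Ideal.exists_le_maximal I hne
    obtain ⟨s, hsQ, hsf⟩ := hs Q hQ.isPrime
    have := hIQ (hI Q s hQ.isPrime hsQ hsf)
    rw [map_mul] at this
    exact hsQ ((hQ.isPrime.mem_or_mem this).elim id id)
  refine ⟨fun z w hzw => ?_, fun y => ?_⟩
  · have hI := key ((⊥ : Submodule C (QFDual.omega A B' C)).colon {z - w}) fun Q s _ _ hsf => by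
      obtain ⟨D, hD, -⟩ := exists_inverse_upto (C := C) h hsf
      rw [Submodule.mem_colon_singleton, Submodule.mem_bot, ← hD, map_sub, hzw, sub_self, map_zero]
    have h1 : (1 : C) ∈ (⊥ : Submodule C (QFDual.omega A B' C)).colon {z - w} := hI ▸ Submodule.mem_top
    rw [Submodule.mem_colon_singleton, Submodule.mem_bot, one_smul, sub_eq_zero] at h1
    exact h1
  · have hI := key ((LinearMap.range (QFDual.omegaBC (B₁ := C) h)).colon {y}) fun Q s _ _ hsf => by
      obtain ⟨D, -, hD⟩ := exists_inverse_upto (C := C) h hsf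
      rw [Submodule.mem_colon_singleton]
      exact ⟨D y, hD y⟩
    have h1 : (1 : C) ∈ (LinearMap.range (QFDual.omegaBC (B₁ := C) h)).colon {y} := hI ▸ Submodule.mem_top
    rwa [Submodule.mem_colon_singleton, one_smul] at h1

end BaseChange

/-- The dualizing module of a flat quasi-finite algebra commutes with any base change. -/
theorem omegaBC_bijective_of_flat {A B' B A₁ B₁' B₁ : Type u} [CommRing A] [CommRing B'] [CommRing B] [CommRing A₁]
    [CommRing B₁'] [CommRing B₁] [IsNoetherianRing A] [Algebra A B'] [Algebra B' B] [Algebra A B]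
    [IsScalarTower A B' B] [Module.Flat A B] (hf : QFDual.IsQFFactor A B' B) [Algebra A A₁] [Algebra B' B₁']
    [Algebra A₁ B₁'] [Algebra A B₁'] [IsScalarTower A A₁ B₁'] [IsScalarTower A B' B₁']
    (h : Algebra.IsPushout A A₁ B' B₁') [Algebra B B₁] [Algebra B₁' B₁] [Algebra B' B₁] [IsScalarTower B' B₁' B₁]
    [IsScalarTower B' B B₁] : Function.Bijective (QFDual.omegaBC (B₁ := B₁) h) := by
  haveI := hf.finite
  haveI := hf.isOpenImmersion
  refine omegaBC_bijective_of_split h fun Q hQ => ?_
  haveI : (Q.comap (algebraMap B B₁)).IsPrime := Ideal.IsPrime.comap _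
  haveI := flat_localization (A := A) (B' := B') (Q.comap (algebraMap B B₁))
  haveI : ((Q.comap (algebraMap B B₁)).comap (algebraMap B' B)).IsPrime := Ideal.IsPrime.comap _
  obtain ⟨s, hs, hsf⟩ := exists_factorsFree (A := A) ((Q.comap (algebraMap B B₁)).comap (algebraMap B' B))
  exact ⟨s, fun h' => hs (by
    rw [IsScalarTower.algebraMap_apply B' B B₁] at h'; exact h'), hsf⟩

end Groth.Agent.CohDer1.QFDiff
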