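import Groth.Prelude.Def_QFDual
import Groth.Agent.FiniteEt.Trace
import Mathlib.RingTheory.Localization.BaseChange
import Mathlib.RingTheory.Localization.NormTrace
import Mathlib.RingTheory.Flat.Basic
import Mathlib.RingTheory.Finiteness.Projective

/-!
# The Dedekind complementary module and the dualizing module
-/

set_option autoImplicit false

universe u

open TensorProduct

namespace Groth.Agent.CohDer1.QFDiff

variable {A K B L : Type u} [CommRing A] [CommRing K] [CommRing B] [CommRing L] [Algebra A K] [Algebra A B]
  [Algebra B L] [Algebra K L] [Algebra A L] [IsScalarTower A K L] [IsScalarTower A B L]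

theorem isPushout_of_dedekind (h : QFDual.IsDedekindDefined A K B L) : Algebra.IsPushout A K B L := by
  haveI := h.isFractionRing
  haveI := h.isLocalization
  exact (Algebra.isPushout_of_isLocalization (nonZeroDivisors A) K B L).symm

/-- The trace of an element of a projective finite algebra, computed after localisation, is integral. -/
theorem one_mem_complementary (h : QFDual.IsDedekindDefined A K B L) [Module.Projective A B] :
    (1 : L) ∈ QFDual.complementary A K B L := by
  classical
  haveI := h.finite
  haveI := h.free
  haveI := h.finiteKL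
  have hp := (isPushout_of_dedekind h).out
  obtain ⟨n, f, g, -, -, hfg⟩ := Module.Finite.exists_comp_eq_id_of_projective A B
  intro b
  rw [one_mul]
  let G : L →ₗ[K] (Fin n → K) :=
    LinearMap.pi fun i => hp.lift ((Algebra.linearMap A K).comp ((LinearMap.proj i).comp g))
  have hG : ∀ x i, G (algebraMap B L x) i = algebraMap A K (g x i) := fun x i => hp.lift_eq _ x
  let F : (Fin n → K) →ₗ[K] L := Fintype.linearCombination K fun i => algebraMap B L (f (Pi.single i 1))
  have hF : ∀ c : Fin n → A, F (fun i => algebraMap A K (c i)) = algebraMap B L (f c) := by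
    intro c
    conv_rhs => rw [pi_eq_sum_univ' c]
    rw [map_sum, map_sum, Fintype.linearCombination_apply]
    refine Finset.sum_congr rfl fun i _ => ?_
    rw [map_smul, Algebra.smul_def (c i), map_mul, algebraMap_smul, Algebra.smul_def,
      ← IsScalarTower.algebraMap_apply A B L]
  have hFG : F ∘ₗ G = LinearMap.id := hp.algHom_ext _ _ fun x => by
    show F (G (algebraMap B L x)) = algebraMap B L x
    rw [show G (algebraMap B L x) = fun i => algebraMap A K (g x i) from funext (hG x), hF]
    exact congrArg _ (LinearMap.congr_fun hfg x)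
  let T : L →ₗ[K] L := Algebra.lmul K L (algebraMap B L b)
  have htr : Algebra.trace K L (algebraMap B L b) = LinearMap.trace K _ ((G ∘ₗ T) ∘ₗ F) := by
    rw [Algebra.trace_apply, ← LinearMap.trace_comp_comm' (G ∘ₗ T) F]
    congr 1
    rw [← LinearMap.comp_assoc, hFG, LinearMap.id_comp]
  refine ⟨∑ i, g (b * f (Pi.single i 1)) i, ?_⟩
  rw [htr, LinearMap.trace_eq_matrix_trace K (Pi.basisFun K (Fin n)), Matrix.trace, map_sum]
  refine Finset.sum_congr rfl fun i _ => ?_
  rw [Matrix.diag_apply, LinearMap.toMatrix_apply, Pi.basisFun_repr, Pi.basisFun_apply]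
  have h1 : F (Pi.single i 1) = algebraMap B L (f (Pi.single i 1)) := by
    rw [← hF]
    congr 1
    funext j
    rw [Pi.single_apply, Pi.single_apply, apply_ite (algebraMap A K), map_one, map_zero]
  simp only [LinearMap.comp_apply, h1, T, Algebra.lmul, AlgHom.coe_mk]
  show _ = G (algebraMap B L b * algebraMap B L (f (Pi.single i 1))) i
  rw [← map_mul, hG]

theorem exists_complementary_equiv (h : QFDual.IsDedekindDefined A K B L) :
    ∃ e : QFDual.complementary A K B L ≃ₗ[B] Disc.Omega A B, ∀ (x : QFDual.complementary A K B L) (b : B),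
      algebraMap A K ((e x).toLinearMap b) = Algebra.trace K L ((x : L) * algebraMap B L b) := by
  classical
  haveI := h.isFractionRing
  haveI := h.free
  haveI := h.finiteKL
  haveI := h.etale
  have hp := (isPushout_of_dedekind h).out
  have hinj : Function.Injective (algebraMap A K) := IsFractionRing.injective A K
  have hbij : Function.Bijective (Algebra.traceForm K L) := by
    let bas := Module.Free.chooseBasis K L
    have hu := (Groth.Agent.FiniteEt.isUnit_det_iff_etale K L bas).mpr h.etale
    have he : LinearMap.toMatrix bas bas.dualBasis (Algebra.traceForm K L) = Algebra.traceMatrix K bas := by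
      ext i j
      rw [LinearMap.toMatrix_apply, Module.Basis.dualBasis_repr, Algebra.traceMatrix_apply,
        Algebra.traceForm_apply, Algebra.traceForm_apply, mul_comm]
    rw [← he] at hu
    exact (LinearEquiv.ofIsUnitDet hu).bijective
  let φ : QFDual.complementary A K B L → Disc.Omega A B := fun x =>
    ⟨{ toFun := fun b => (x.2 b).choose
       map_add' := fun b c => hinj ((x.2 (b + c)).choose_spec.trans (by
         rw [map_add (algebraMap B L), mul_add, map_add, map_add (algebraMap A K)]
         exact congrArg₂ (· + ·) (x.2 b).choose_spec.symm (x.2 c).choose_spec.symm))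
       map_smul' := fun a b => hinj ((x.2 (a • b)).choose_spec.trans (by
         rw [RingHom.id_apply, smul_eq_mul, map_mul (algebraMap A K), (x.2 b).choose_spec, Algebra.smul_def,
           map_mul (algebraMap B L), ← IsScalarTower.algebraMap_apply, IsScalarTower.algebraMap_apply A K L, mul_left_comm,
           ← Algebra.smul_def, map_smul, smul_eq_mul])) }⟩
  have hφ : ∀ x b, algebraMap A K ((φ x).toLinearMap b) = Algebra.trace K L ((x : L) * algebraMap B L b) :=
    fun x b => (x.2 b).choose_spec
  let e : QFDual.complementary A K B L →ₗ[B] Disc.Omega A B :=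
    { toFun := φ
      map_add' := fun x y => Disc.Omega.ext (LinearMap.ext fun b => hinj (by
        rw [Disc.Omega.add_toLinearMap, LinearMap.add_apply, map_add, hφ, hφ, hφ, Submodule.coe_add, add_mul, map_add]))
      map_smul' := fun c x => Disc.Omega.ext (LinearMap.ext fun b => hinj (by
        rw [RingHom.id_apply, Disc.Omega.smul_toLinearMap_apply, hφ, hφ, Submodule.coe_smul, Algebra.smul_def, map_mul (algebraMap B L)]
        congr 1
        ring)) }
  have hbij' : Function.Bijective e := by
    refine ⟨fun x y hxy => Subtype.ext (hbij.1 (hp.algHom_ext _ _ fun b => ?_)), fun ψ => ?_⟩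
    · show Algebra.trace K L ((x : L) * algebraMap B L b) = Algebra.trace K L ((y : L) * algebraMap B L b)
      rw [← hφ, ← hφ, show φ x = φ y from hxy]
    · let ψK : L →ₗ[K] K := hp.lift ((Algebra.linearMap A K).comp ψ.toLinearMap)
      obtain ⟨x, hx⟩ := hbij.2 ψK
      have hψ : ∀ b, Algebra.trace K L (x * algebraMap B L b) = algebraMap A K (ψ.toLinearMap b) := fun b => by
        rw [← Algebra.traceForm_apply, hx]
        exact hp.lift_eq _ b
      refine ⟨⟨x, fun b => ⟨_, (hψ b).symm⟩⟩, Disc.Omega.ext (LinearMap.ext fun b => hinj ?_)⟩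
      exact (hφ _ b).trans (hψ b)
  exact ⟨LinearEquiv.ofBijective e hbij', hφ⟩

theorem dedekindDifferent_eq (h : QFDual.IsDedekindDefined A K B L) [Module.Finite A B] [Module.Free A B] :
    QFDual.dedekindDifferent A K B L =
      Submodule.map (Algebra.linearMap B L) (QFDual.different B (Disc.Omega.trace A B)) := by
  haveI := h.isFractionRing
  haveI := h.isLocalization
  have h1 : (1 : L) ∈ QFDual.complementary A K B L := one_mem_complementary h
  obtain ⟨e, he⟩ := exists_complementary_equiv h
  have hinj : Function.Injective (algebraMap A K) := IsFractionRing.injective A K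
  have heτ : e ⟨1, h1⟩ = Disc.Omega.trace A B := Disc.Omega.ext (LinearMap.ext fun b => hinj (by
    rw [he, one_mul]
    exact Algebra.trace_localization A (nonZeroDivisors A) b))
  refine le_antisymm (fun x hx => ?_) ?_
  · obtain ⟨b, hb⟩ := hx 1 h1
    rw [mul_one] at hb
    refine ⟨b, (QFDual.mem_different_iff B _ b).mpr fun m => ?_, hb⟩
    obtain ⟨y, rfl⟩ := e.surjective m
    obtain ⟨c, hc⟩ := hx (y : L) y.2
    refine ⟨c, ?_⟩
    rw [← heτ, ← map_smul, ← map_smul]
    refine congrArg e (Subtype.ext ?_)
    show c • (1 : L) = b • (y : L)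
    rw [Algebra.smul_def, Algebra.smul_def, mul_one, hc, hb]
  · rintro _ ⟨b, hb, rfl⟩ y hy
    obtain ⟨c, hc⟩ := (QFDual.mem_different_iff B _ b).mp hb (e ⟨y, hy⟩)
    rw [← heτ, ← map_smul, ← map_smul] at hc
    have h2 : c • (1 : L) = b • y := congrArg Subtype.val (e.injective hc)
    refine ⟨c, ?_⟩
    rw [Algebra.smul_def, Algebra.smul_def, mul_one] at h2
    exact h2

end Groth.Agent.CohDer1.QFDiff
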